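import Mathlib

/-!
# Coverings of a group by two classes of subgroups: generalities (helper98, S2500)

`Covered G` says that two proper subgroups have conjugates covering `G`.
-/

set_option autoImplicit false

namespace Cfsg.Agent.Cover98

open Polynomial

/-- `G` is the union of the conjugates of two proper subgroups. -/
def Covered (G : Type*) [Group G] : Prop :=
  ∃ H K : Subgroup G, H ≠ ⊤ ∧ K ≠ ⊤ ∧ ∀ g : G, ∃ x : G, x * g * x⁻¹ ∈ H ∨ x * g * x⁻¹ ∈ K

theorem covered_quotient {G : Type*} [Group G] (Z : Subgroup G) [Z.Normal] (H K : Subgroup G)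
    (hZH : Z ≤ H) (hZK : Z ≤ K) (hH : H ≠ ⊤) (hK : K ≠ ⊤)
    (h : ∀ g : G, ∃ x : G, x * g * x⁻¹ ∈ H ∨ x * g * x⁻¹ ∈ K) : Covered (G ⧸ Z) := by
  have hne : ∀ L : Subgroup G, Z ≤ L → L ≠ ⊤ → L.map (QuotientGroup.mk' Z) ≠ ⊤ := by
    intro L hZL hL e
    refine hL ?_
    have := congrArg (Subgroup.comap (QuotientGroup.mk' Z)) e
    rwa [Subgroup.comap_map_eq, QuotientGroup.ker_mk', sup_eq_left.2 hZL, Subgroup.comap_top] at this
  refine ⟨H.map (QuotientGroup.mk' Z), K.map (QuotientGroup.mk' Z), hne H hZH hH, hne K hZK hK, ?_⟩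
  intro y
  obtain ⟨g, rfl⟩ := QuotientGroup.mk'_surjective Z y
  obtain ⟨x, hx⟩ := h g
  refine ⟨QuotientGroup.mk' Z x, hx.imp ?_ ?_⟩ <;>
  · intro hm
    rw [← map_inv, ← map_mul, ← map_mul]
    exact Subgroup.mem_map_of_mem _ hm

/-- A subgroup that is everything is ruled out by one missing element. -/
theorem ne_top_of_notMem {G : Type*} [Group G] {H : Subgroup G} {g : G} (h : g ∉ H) : H ≠ ⊤ :=
  fun e => h (e ▸ Subgroup.mem_top g)

section Poly

variable {F : Type*} [Field F]

/-- In a finite extension of degree divisible by `deg p`, an irreducible `p` has a root; stated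
for the field defined by an irreducible `f`, as a polynomial `s` with `p(s) ≡ 0 (mod f)`. -/
theorem exists_root_mod [Finite F] {p f : F[X]} (hp : Irreducible p) (hf : Irreducible f)
    (hd : p.natDegree ∣ f.natDegree) : ∃ s : F[X], f ∣ p.comp s := by
  haveI := Fact.mk hp
  haveI := Fact.mk hf
  haveI : Module.Finite F (AdjoinRoot p) := (AdjoinRoot.powerBasis hp.ne_zero).finite
  haveI : Module.Finite F (AdjoinRoot f) := (AdjoinRoot.powerBasis hf.ne_zero).finite
  haveI : Finite (AdjoinRoot p) := Module.finite_of_finite F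
  haveI : Finite (AdjoinRoot f) := Module.finite_of_finite F
  obtain ⟨φ⟩ := FiniteField.nonempty_algHom_of_finrank_dvd (F := F) (K := AdjoinRoot p)
    (L := AdjoinRoot f) (by
      rwa [(AdjoinRoot.powerBasis hp.ne_zero).finrank, (AdjoinRoot.powerBasis hf.ne_zero).finrank,
        AdjoinRoot.powerBasis_dim, AdjoinRoot.powerBasis_dim])
  obtain ⟨s, hs⟩ := AdjoinRoot.mk_surjective (φ (AdjoinRoot.root p))
  refine ⟨s, AdjoinRoot.mk_eq_zero.1 ?_⟩
  rw [← AdjoinRoot.aeval_eq, aeval_comp, AdjoinRoot.aeval_eq, hs, aeval_algHom_apply,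
    AdjoinRoot.aeval_eq, AdjoinRoot.mk_self, map_zero]

theorem exists_irreducible_natDegree [Finite F] {d : ℕ} (hd : 0 < d) :
    ∃ p : F[X], Irreducible p ∧ p.natDegree = d := by
  obtain ⟨c, hc⟩ := CharP.exists F
  haveI : Fact c.Prime := ⟨CharP.char_is_prime F c⟩
  haveI : NeZero d := ⟨hd.ne'⟩
  obtain ⟨α, hα⟩ := Field.exists_primitive_element F (FiniteField.Extension F c d)
  exact ⟨minpoly F α, minpoly.irreducible (Algebra.IsIntegral.isIntegral α),
    ((Field.primitive_element_iff_minpoly_natDegree_eq F α).1 hα).trans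
      (FiniteField.finrank_extension F c d)⟩

theorem aeval_comp_eq_zero {A : Type*} [Ring A] [Algebra F A] {f q : F[X]} (h : f ∣ q) {a : A}
    (ha : aeval a f = 0) : aeval a q = 0 := by
  obtain ⟨c, rfl⟩ := h
  rw [map_mul, ha, zero_mul]

/-- `f(X^{|F|^k}) = f^{|F|^k}`. -/
theorem comp_X_pow_card [Fintype F] (f : F[X]) (k : ℕ) :
    f.comp (X ^ Fintype.card F ^ k) = f ^ Fintype.card F ^ k := by
  induction k generalizing f with
  | zero => simp
  | succ k ih =>
    rw [show (X ^ Fintype.card F ^ (k + 1) : F[X]) =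
      (X ^ Fintype.card F ^ k : F[X]).comp (X ^ Fintype.card F) by
        simp [← pow_mul, pow_succ, mul_comm],
      ← comp_assoc, ← expand_eq_comp_X_pow, FiniteField.expand_card, ih, ← pow_mul, ← pow_succ]

/-- The minimal polynomial of a matrix has degree at most its size. -/
theorem natDegree_minpoly_le {ι : Type*} [Fintype ι] [DecidableEq ι] (A : Matrix ι ι F) :
    (minpoly F A).natDegree ≤ Fintype.card ι := by
  have h := natDegree_le_of_dvd (Matrix.minpoly_dvd_charpoly A) A.charpoly_monic.ne_zero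
  rwa [Matrix.charpoly_natDegree_eq_dim] at h

end Poly

end Cfsg.Agent.Cover98
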