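import Cfsg.Agent.Cover98.Basic
import Cfsg.Agent.BC85.G2.Model

/-!
`G₂(F)`, `|F| = 2^a ≥ 4`: the stabilisers of the two classes of quadratic subalgebras cover
(helper98, S2500).
-/

set_option autoImplicit false

namespace Cfsg.Agent.Cover98.G2Even

open Matrix Cfsg.Lie
open scoped MatrixGroups

variable {F : Type*} [Field F]

local notation "V" => (Fin 8 → F)

/-- The action on the algebra. -/
def ap (φ : G2 F) (x : V) : V := ((φ : GL (Fin 8) F) : Matrix (Fin 8) (Fin 8) F) *ᵥ x

theorem ap_mul (φ ψ : G2 F) (x : V) : ap (φ * ψ) x = ap φ (ap ψ x) := by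
  simp [ap]

theorem ap_one (x : V) : ap 1 x = x := by
  simp [ap]

theorem ap_inv_ap (φ : G2 F) (x : V) : ap φ⁻¹ (ap φ x) = x := by
  rw [← ap_mul, inv_mul_cancel, ap_one]

theorem ap_ap_inv (φ : G2 F) (x : V) : ap φ (ap φ⁻¹ x) = x := by
  rw [← ap_mul, mul_inv_cancel, ap_one]

theorem ap_add (φ : G2 F) (x y : V) : ap φ (x + y) = ap φ x + ap φ y := Matrix.mulVec_add _ _ _

theorem ap_smul (φ : G2 F) (c : F) (x : V) : ap φ (c • x) = c • ap φ x := Matrix.mulVec_smul _ _ _

theorem ap_zornMul (φ : G2 F) (x y : V) : ap φ (zornMul x y) = zornMul (ap φ x) (ap φ y) := φ.2 x y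

/-- The identity of the algebra. -/
def one : V := ![1, 0, 0, 0, 0, 0, 0, 1]

/-- The trace. -/
def tr (x : V) : F := x 0 + x 7

/-- The norm. -/
def nm (x : V) : F := x 0 * x 7 - (x 1 * x 4 + x 2 * x 5 + x 3 * x 6)

theorem one_zornMul (x : V) : zornMul one x = x := by
  ext i
  fin_cases i <;> simp [one, zornMul, zA, zB, dot3, cross3]

theorem zornMul_one (x : V) : zornMul x one = x := by
  ext i
  fin_cases i <;> simp [one, zornMul, zA, zB, dot3, cross3]

theorem ap_one_eq (φ : G2 F) : ap φ one = one := by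
  calc ap φ one = zornMul (ap φ one) one := (zornMul_one _).symm
    _ = zornMul (ap φ one) (ap φ (ap φ⁻¹ one)) := by rw [ap_ap_inv]
    _ = ap φ (ap φ⁻¹ one) := by rw [← ap_zornMul, one_zornMul]
    _ = one := ap_ap_inv _ _

theorem sq_eq (x : V) : zornMul x x = tr x • x + (-nm x) • one := by
  ext i
  fin_cases i <;> simp [one, tr, nm, zornMul, zA, zB, dot3, cross3] <;> ring

theorem tr_smul_one (c : F) : tr (c • (one : V)) = c + c := by simp [tr, one]

theorem ap_invariants (φ : G2 F) (x : V) : tr (ap φ x) = tr x ∧ nm (ap φ x) = nm x := by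
  by_cases hx : ∃ c : F, ap φ x = c • one
  · obtain ⟨c, hc⟩ := hx
    have : x = c • one := by rw [← ap_inv_ap φ x, hc, ap_smul, ap_one_eq]
    rw [hc, ← this]
    exact ⟨rfl, rfl⟩
  · have h := ap_zornMul φ x x
    rw [sq_eq, sq_eq, ap_add, ap_smul, ap_smul, ap_one_eq] at h
    have e1 : tr (ap φ x) = tr x := by
      by_contra hne
      refine hx ⟨(tr (ap φ x) - tr x)⁻¹ * (nm (ap φ x) - nm x), ?_⟩
      rw [mul_smul, eq_inv_smul_iff₀ (sub_ne_zero.2 hne)]
      linear_combination (norm := module) -h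
    refine ⟨e1, ?_⟩
    rw [e1, add_right_inj] at h
    have := congrFun h 0
    simp [one] at this
    exact this.symm

/-- The polar form of the norm. -/
def pol (x y : V) : F :=
  x 0 * y 7 + x 7 * y 0 - (x 1 * y 4 + x 4 * y 1 + x 2 * y 5 + x 5 * y 2 + x 3 * y 6 + x 6 * y 3)

theorem nm_add (x y : V) : nm (x + y) = nm x + nm y + pol x y := by
  simp [nm, pol]; ring

theorem pol_ap (φ : G2 F) (x y : V) : pol (ap φ x) (ap φ y) = pol x y := by
  have h := (ap_invariants φ (x + y)).2
  rw [ap_add, nm_add, nm_add, (ap_invariants φ x).2, (ap_invariants φ y).2] at h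
  exact add_left_cancel h

/-- The orbit relation. -/
def Conj (x y : V) : Prop := ∃ φ : G2 F, ap φ x = y

theorem Conj.symm {x y : V} (h : Conj x y) : Conj y x := by
  obtain ⟨φ, hφ⟩ := h
  exact ⟨φ⁻¹, by rw [← hφ, ap_inv_ap]⟩

theorem Conj.trans {x y z : V} (h : Conj x y) (h' : Conj y z) : Conj x z := by
  obtain ⟨φ, rfl⟩ := h
  obtain ⟨ψ, rfl⟩ := h'
  exact ⟨ψ * φ, ap_mul _ _ _⟩

theorem Conj.refl (x : V) : Conj x x := ⟨1, ap_one x⟩

/-! ### Automorphisms from `SL₃` -/

/-- The vector with the given coordinates. -/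
def mk (α : F) (a b : Fin 3 → F) (β : F) : V := ![α, a 0, a 1, a 2, b 0, b 1, b 2, β]

theorem eq_mk (x : V) : x = mk (x 0) ![x 1, x 2, x 3] ![x 4, x 5, x 6] (x 7) := by
  ext i; fin_cases i <;> rfl

/-- The matrix with the given columns. -/
def colMap (p q r a : Fin 3 → F) : Fin 3 → F := a 0 • p + a 1 • q + a 2 • r

/-- The map given by three columns of a matrix of determinant one. -/
def lin (p q r : Fin 3 → F) : V →ₗ[F] V where
  toFun x :=
    mk (x 0) (colMap p q r ![x 1, x 2, x 3])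
      (colMap (cross3 q r) (cross3 r p) (cross3 p q) ![x 4, x 5, x 6]) (x 7)
  map_add' x y := by ext i; fin_cases i <;> simp [mk, colMap] <;> ring
  map_smul' c x := by ext i; fin_cases i <;> simp [mk, colMap] <;> ring

theorem lin_mk (p q r : Fin 3 → F) (α : F) (a b : Fin 3 → F) (β : F) :
    lin p q r (mk α a b β) =
      mk α (colMap p q r a) (colMap (cross3 q r) (cross3 r p) (cross3 p q) b) β := by
  ext i; fin_cases i <;> simp [lin, mk, colMap]

theorem mk_zornMul (α β γ δ : F) (a b c d : Fin 3 → F) :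
    zornMul (mk α a b β) (mk γ c d δ) = mk (α * γ + dot3 a d) (α • c + δ • a - cross3 b d)
      (γ • b + β • d + cross3 a c) (dot3 b c + β * δ) := by
  ext i; fin_cases i <;> simp [zornMul, mk, zA, zB, dot3, cross3]

theorem dot3_colMap (p q r a d : Fin 3 → F) :
    dot3 (colMap p q r a) (colMap (cross3 q r) (cross3 r p) (cross3 p q) d) =
      dot3 p (cross3 q r) * dot3 a d := by
  simp [dot3, cross3, colMap]
  ring

theorem cross3_colMap (p q r a c : Fin 3 → F) :
    cross3 (colMap p q r a) (colMap p q r c) =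
      colMap (cross3 q r) (cross3 r p) (cross3 p q) (cross3 a c) := by
  ext i; fin_cases i <;> simp [cross3, colMap] <;> ring

theorem cross3_colMap_cof (p q r b d : Fin 3 → F) :
    cross3 (colMap (cross3 q r) (cross3 r p) (cross3 p q) b)
        (colMap (cross3 q r) (cross3 r p) (cross3 p q) d) =
      dot3 p (cross3 q r) • colMap p q r (cross3 b d) := by
  ext i; fin_cases i <;> simp [cross3, colMap, dot3] <;> ring

theorem colMap_linear (p q r a c : Fin 3 → F) (s t : F) :
    colMap p q r (s • a + t • c) = s • colMap p q r a + t • colMap p q r c := by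
  simp only [colMap, Pi.add_apply, Pi.smul_apply, smul_eq_mul]
  module

theorem colMap_add (p q r a c : Fin 3 → F) :
    colMap p q r (a + c) = colMap p q r a + colMap p q r c := by
  simp only [colMap, Pi.add_apply]
  module

theorem colMap_sub (p q r a c : Fin 3 → F) :
    colMap p q r (a - c) = colMap p q r a - colMap p q r c := by
  simp only [colMap, Pi.sub_apply]
  module

theorem lin_zornMul {p q r : Fin 3 → F} (h : dot3 p (cross3 q r) = 1) (x y : V) :
    lin p q r (zornMul x y) = zornMul (lin p q r x) (lin p q r y) := by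
  rw [eq_mk x, eq_mk y, mk_zornMul, lin_mk, lin_mk, lin_mk, mk_zornMul, cross3_colMap_cof,
    cross3_colMap, dot3_colMap, h, one_smul, one_mul, colMap_sub, colMap_linear,
    colMap_add, colMap_linear]
  congr 2
  have comm : ∀ u v : Fin 3 → F, dot3 u v = dot3 v u := fun u v => by simp [dot3]; ring
  rw [comm (colMap _ _ _ ![x 4, x 5, x 6]) (colMap _ _ _ ![y 1, y 2, y 3]), dot3_colMap, h,
    one_mul, comm]

theorem lin_injective {p q r : Fin 3 → F} (h : dot3 p (cross3 q r) = 1) :
    Function.Injective (lin p q r) := by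
  simp only [dot3, cross3, cons_val_zero, cons_val_one, cons_val] at h
  rw [injective_iff_map_eq_zero]
  intro x hx
  have e := fun i : Fin 8 => congrFun hx i
  have e0 := e 0; have e1 := e 1; have e2 := e 2; have e3 := e 3
  have e4 := e 4; have e5 := e 5; have e6 := e 6; have e7 := e 7
  simp [lin, mk, colMap, cross3] at e0 e1 e2 e3 e4 e5 e6 e7
  ext i
  fin_cases i <;> simp
  · exact e0
  · linear_combination (q 1 * r 2 - q 2 * r 1) * e1 + (q 2 * r 0 - q 0 * r 2) * e2
      + (q 0 * r 1 - q 1 * r 0) * e3 - x 1 * h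
  · linear_combination (r 1 * p 2 - r 2 * p 1) * e1 + (r 2 * p 0 - r 0 * p 2) * e2
      + (r 0 * p 1 - r 1 * p 0) * e3 - x 2 * h
  · linear_combination (p 1 * q 2 - p 2 * q 1) * e1 + (p 2 * q 0 - p 0 * q 2) * e2
      + (p 0 * q 1 - p 1 * q 0) * e3 - x 3 * h
  · linear_combination p 0 * e4 + p 1 * e5 + p 2 * e6 - x 4 * h
  · linear_combination q 0 * e4 + q 1 * e5 + q 2 * e6 - x 5 * h
  · linear_combination r 0 * e4 + r 1 * e5 + r 2 * e6 - x 6 * h
  · exact e7

theorem conj_lin {p q r : Fin 3 → F} (h : dot3 p (cross3 q r) = 1) (x : V) :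
    Conj x (lin p q r x) := by
  have hu : IsUnit (LinearMap.toMatrix' (lin p q r)) := by
    rw [← Matrix.mulVec_injective_iff_isUnit]
    intro a b hab
    rw [LinearMap.toMatrix'_mulVec, LinearMap.toMatrix'_mulVec] at hab
    exact lin_injective h hab
  refine ⟨⟨hu.unit, fun a b => ?_⟩, ?_⟩
  · show LinearMap.toMatrix' (lin p q r) *ᵥ _ = zornMul (LinearMap.toMatrix' (lin p q r) *ᵥ _)
      (LinearMap.toMatrix' (lin p q r) *ᵥ _)
    simp only [LinearMap.toMatrix'_mulVec]
    exact lin_zornMul h a b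
  · show LinearMap.toMatrix' (lin p q r) *ᵥ x = _
    rw [LinearMap.toMatrix'_mulVec]

theorem exists_cross_eq {c : Fin 3 → F} (hc : c ≠ 0) : ∃ u v : Fin 3 → F, cross3 u v = c := by
  by_cases h0 : c 0 = 0
  · by_cases h1 : c 1 = 0
    · have h2 : c 2 ≠ 0 := fun h2 => hc (by ext i; fin_cases i <;> assumption)
      refine ⟨![c 2, 0, 0], ![0, 1, 0], ?_⟩
      ext i; fin_cases i <;> simp [cross3, h0, h1]
    · refine ⟨![0, -c 2, c 1], ![1, 0, 0], ?_⟩
      ext i; fin_cases i <;> simp [cross3, h0]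
  · refine ⟨![-c 1, c 0, 0], ![-c 2 / c 0, 0, 1], ?_⟩
    ext i; fin_cases i <;> simp [cross3]
    field_simp

theorem exists_dot_eq_one {a : Fin 3 → F} (ha : a ≠ 0) : ∃ c : Fin 3 → F, dot3 a c = 1 := by
  obtain ⟨i, hi⟩ := Function.ne_iff.1 ha
  refine ⟨Pi.single i (a i)⁻¹, ?_⟩
  simp only [Pi.zero_apply] at hi
  fin_cases i <;> simp at hi ⊢ <;> simp [dot3, hi]

theorem conj_plane {a c : Fin 3 → F} (h : dot3 a c = 1) (α β s t : F) :
    Conj (mk α ![s, 0, 0] ![t, 0, 0] β) (mk α (s • a) (t • c) β) := by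
  have hc : c ≠ 0 := fun e => one_ne_zero (α := F) (by rw [← h, e]; simp [dot3])
  obtain ⟨u, v, huv⟩ := exists_cross_eq hc
  convert conj_lin (p := a) (q := u) (r := v) (by rw [huv, h]) (mk α ![s, 0, 0] ![t, 0, 0] β) using 1
  ext i
  fin_cases i <;> simp [lin, mk, colMap, huv]

theorem conj_cross {a b : Fin 3 → F} (ha : a ≠ 0) (hb : b ≠ 0) (hab : dot3 a b = 0) (α β : F) :
    Conj (mk α ![1, 0, 0] ![0, 1, 0] β) (mk α a b β) := by
  obtain ⟨w, hw⟩ := exists_dot_eq_one ha
  obtain ⟨u, hu⟩ := exists_dot_eq_one hb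
  have hv : cross3 (cross3 w b) a = b := by
    simp only [dot3] at hw hab
    ext i
    fin_cases i <;> simp [cross3]
    · linear_combination b 0 * hw - w 0 * hab
    · linear_combination b 1 * hw - w 1 * hab
    · linear_combination b 2 * hw - w 2 * hab
  have hdet : dot3 a (cross3 u (cross3 w b)) = 1 := by
    rw [← hu]
    conv_rhs => rw [← hv]
    simp [dot3, cross3]
    ring
  convert conj_lin (p := a) (q := u) (r := cross3 w b) hdet (mk α ![1, 0, 0] ![0, 1, 0] β) using 1
  ext i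
  fin_cases i <;> simp [lin, mk, colMap, hv]

/-- The elements inside the standard quaternion subalgebra. -/
def emb (u : Matrix (Fin 2) (Fin 2) F) : V := mk (u 0 0) ![u 0 1, 0, 0] ![u 1 0, 0, 0] (u 1 1)

theorem enc_zero (u : Matrix (Fin 2) (Fin 2) F) : BC85.G2.enc (u, 0) = emb u := by
  ext i; fin_cases i <;> simp [BC85.G2.enc, emb, mk]

theorem ap_tau (g : GL (Fin 2) F) (u : Matrix (Fin 2) (Fin 2) F × Matrix (Fin 2) (Fin 2) F) :
    ap (BC85.G2.tau (ProjGenLinGroup.mk g)) (BC85.G2.enc u) =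
      BC85.G2.enc ((g : Matrix (Fin 2) (Fin 2) F) * u.1 * (↑g⁻¹ : Matrix (Fin 2) (Fin 2) F),
       (g : Matrix (Fin 2) (Fin 2) F) * u.2 * (↑g⁻¹ : Matrix (Fin 2) (Fin 2) F)) := by
  rw [← BC85.G2.act_tau, BC85.G2.act]
  simp [ap]

theorem ap_tau_emb (g : GL (Fin 2) F) (u : Matrix (Fin 2) (Fin 2) F) :
    ap (BC85.G2.tau (ProjGenLinGroup.mk g)) (emb u) =
      emb ((g : Matrix (Fin 2) (Fin 2) F) * u * (↑g⁻¹ : Matrix (Fin 2) (Fin 2) F)) := by
  rw [← enc_zero, ap_tau, ← enc_zero]
  simp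

theorem conj_emb_of_zero (α β : F) (a b : Fin 3 → F) (h : a = 0 ∨ b = 0) :
    ∃ u : Matrix (Fin 2) (Fin 2) F, Conj (mk α a b β) (emb u) := by
  rcases h with rfl | rfl
  · by_cases hb : b = 0
    · subst hb
      refine ⟨!![α, 0; 0, β], ?_⟩
      convert Conj.refl _ using 2
      ext i; fin_cases i <;> simp [mk, emb]
    · obtain ⟨c, hc⟩ := exists_dot_eq_one hb
      have := conj_plane (a := c) (c := b) (by rw [← hc]; simp [dot3]; ring) α β 0 1
      rw [zero_smul, one_smul] at this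
      exact ⟨!![α, 0; 1, β], this.symm⟩
  · by_cases ha : a = 0
    · subst ha
      refine ⟨!![α, 0; 0, β], ?_⟩
      convert Conj.refl _ using 2
      ext i; fin_cases i <;> simp [mk, emb]
    · obtain ⟨c, hc⟩ := exists_dot_eq_one ha
      have := conj_plane hc α β 1 0
      rw [zero_smul, one_smul] at this
      exact ⟨!![α, 1; 0, β], this.symm⟩

variable [CharP F 2]

theorem exists_emb (x : V) (hx : tr x = 1) :
    ∃ u : Matrix (Fin 2) (Fin 2) F, Conj x (emb u) := by
  rw [eq_mk x]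
  generalize ha : (![x 1, x 2, x 3] : Fin 3 → F) = a
  generalize hb : (![x 4, x 5, x 6] : Fin 3 → F) = b
  by_cases h0 : a = 0 ∨ b = 0
  · exact conj_emb_of_zero _ _ _ _ h0
  push Not at h0
  by_cases hd : dot3 a b = 0
  · have h1 := (conj_cross h0.1 h0.2 hd (x 0) (x 7)).symm
    let g : GL (Fin 2) F := Matrix.GeneralLinearGroup.mkOfDetNeZero !![1, 1; 0, 1]
      (by simp [Matrix.det_fin_two])
    have hg : (↑g⁻¹ : Matrix (Fin 2) (Fin 2) F) = !![1, 1; 0, 1] := by
      refine Units.inv_eq_of_mul_eq_one_right ?_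
      show (!![1, 1; 0, 1] : Matrix (Fin 2) (Fin 2) F) * !![1, 1; 0, 1] = 1
      ext i j
      fin_cases i <;> fin_cases j <;> simp [CharTwo.add_self_eq_zero]
    have h2 : Conj (mk (x 0) ![1, 0, 0] ![0, 1, 0] (x 7)) (mk (x 0) 0 ![0, 1, 1] (x 7)) := by
      refine ⟨BC85.G2.tau (ProjGenLinGroup.mk g), ?_⟩
      have e : mk (x 0) ![1, 0, 0] ![0, 1, 0] (x 7) =
          BC85.G2.enc (!![x 0, 1; 0, x 7], !![0, 0; 0, 1]) := by
        ext i; fin_cases i <;> simp [BC85.G2.enc, mk]
      rw [e, ap_tau, hg]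
      have h2' : (2 : F) = 0 := CharTwo.two_eq_zero
      unfold tr at hx
      ext i
      fin_cases i <;> simp [BC85.G2.enc, mk, g, Matrix.mul_apply]
      all_goals linear_combination hx + h2'
    obtain ⟨u, hu⟩ := conj_emb_of_zero (x 0) (x 7) (0 : Fin 3 → F) ![0, 1, 1] (Or.inl rfl)
    exact ⟨u, h1.trans (h2.trans hu)⟩
  · have := conj_plane (a := a) (c := (dot3 a b)⁻¹ • b) (by
      simp only [dot3, Pi.smul_apply, smul_eq_mul] at hd ⊢
      field_simp) (x 0) (x 7) 1 (dot3 a b)
    rw [one_smul, smul_inv_smul₀ hd] at this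
    exact ⟨!![x 0, 1; dot3 a b, x 7], this.symm⟩

/-- The representative of trace one and norm `d`. -/
def rep (d : F) : V := ![0, d, 0, 0, 1, 0, 0, 1]

theorem nm_emb (u : Matrix (Fin 2) (Fin 2) F) : nm (emb u) = u.det := by
  simp [nm, emb, mk, Matrix.det_fin_two]

theorem conj_rep (x : V) (hx : tr x = 1) : Conj x (rep (nm x)) := by
  obtain ⟨u, hu⟩ := exists_emb x hx
  obtain ⟨φ, hφ⟩ := hu
  obtain ⟨htr, hn⟩ := ap_invariants φ x
  rw [hφ, nm_emb] at hn
  rw [hφ] at htr
  have ht : u 0 0 + u 1 1 = 1 := by rw [← hx, ← htr]; simp [tr, emb, mk]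
  refine Conj.trans ⟨φ, hφ⟩ ?_
  obtain ⟨v0, v1, hv⟩ : ∃ v0 v1 : F,
      Matrix.det !![v0, u 0 0 * v0 + u 0 1 * v1; v1, u 1 0 * v0 + u 1 1 * v1] ≠ 0 := by
    by_cases h10 : u 1 0 = 0
    · by_cases h01 : u 0 1 = 0
      · refine ⟨1, 1, ?_⟩
        rw [Matrix.det_fin_two]
        simp [h10, h01]
        rw [CharTwo.sub_eq_add, add_comm, ht]
        exact one_ne_zero
      · exact ⟨0, 1, by simp [Matrix.det_fin_two, h01]⟩
    · exact ⟨1, 0, by simp [Matrix.det_fin_two, h10]⟩
  let P : GL (Fin 2) F := Matrix.GeneralLinearGroup.mkOfDetNeZero _ hv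
  have hP : u * (P : Matrix (Fin 2) (Fin 2) F) =
      (P : Matrix (Fin 2) (Fin 2) F) * !![0, u.det; 1, 1] := by
    have h2' : (2 : F) = 0 := CharTwo.two_eq_zero
    ext i j
    fin_cases i <;> fin_cases j <;> simp [P, Matrix.mul_apply, Matrix.det_fin_two]
    · linear_combination (u 0 0 * v0 + u 0 1 * v1) * ht - v0 * (u 0 0 * u 1 1 - u 0 1 * u 1 0) * h2'
    · linear_combination (u 1 0 * v0 + u 1 1 * v1) * ht - v1 * (u 0 0 * u 1 1 - u 0 1 * u 1 0) * h2'
  refine ⟨BC85.G2.tau (ProjGenLinGroup.mk P⁻¹), ?_⟩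
  rw [ap_tau_emb, inv_inv, mul_assoc, hP, Units.inv_mul_cancel_left, hn]
  ext i; fin_cases i <;> simp [emb, mk, rep]

theorem tr_add_one (μ : F) (x : V) : tr (x + μ • one) = tr x := by
  have h2' : (2 : F) = 0 := CharTwo.two_eq_zero
  simp [tr, one]
  linear_combination μ * h2'

omit [CharP F 2] in
theorem nm_add_one (μ : F) (x : V) : nm (x + μ • one) = nm x + (μ ^ 2 + μ * tr x) := by
  simp [nm, tr, one]; ring

theorem add_one_one (r : V) : r + one + one = r := by
  funext i
  simp [add_assoc, CharTwo.add_self_eq_zero]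

/-- The stabiliser of `{r, r + 1}`. -/
def stab (r : V) : Subgroup (G2 F) where
  carrier := {φ | ap φ r = r ∨ ap φ r = r + one}
  one_mem' := Or.inl (ap_one r)
  mul_mem' {φ ψ} hφ hψ := by
    show ap (φ * ψ) r = r ∨ ap (φ * ψ) r = r + one
    rw [ap_mul]
    rcases hψ with h | h <;> rw [h]
    · exact hφ
    · rw [ap_add, ap_one_eq]
      rcases hφ with h' | h' <;> rw [h']
      · exact Or.inr rfl
      · exact Or.inl (add_one_one r)
  inv_mem' {φ} hφ := by
    show ap φ⁻¹ r = r ∨ ap φ⁻¹ r = r + one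
    rcases hφ with h | h
    · left; conv_lhs => rw [← h, ap_inv_ap]
    · right
      conv_lhs => rw [← add_one_one r, ← h, ap_add, ap_inv_ap, ap_one_eq]

theorem exists_plane (g : G2 F) : ∃ x : V, tr x = 1 ∧ g ∈ stab x := by
  obtain ⟨x, hx, c, hc⟩ : ∃ x : V, tr x = 1 ∧ ∃ c : F, ap g x = x + c • one := by
    by_contra! hno
    let T : V →ₗ[F] V :=
      ((g : GL (Fin 8) F) : Matrix (Fin 8) (Fin 8) F).mulVecLin + LinearMap.id
    let f : V →ₗ[F] V ⧸ (F ∙ (one : V)) := (F ∙ (one : V)).mkQ ∘ₗ T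
    let t : Module.Dual F V :=
      (LinearMap.proj 0 : V →ₗ[F] F) + (LinearMap.proj 7 : V →ₗ[F] F)
    have ht : t ∈ (LinearMap.ker f).dualAnnihilator := by
      rw [Submodule.mem_dualAnnihilator]
      intro x hx
      by_contra htx
      have hx' : T x ∈ F ∙ (one : V) := by
        simpa [f, Submodule.Quotient.mk_eq_zero] using hx
      obtain ⟨c, hc⟩ := Submodule.mem_span_singleton.1 hx'
      refine hno ((t x)⁻¹ • x) ?_ ((t x)⁻¹ * c) ?_
      · show _ + _ = (1 : F)
        simp only [Pi.smul_apply, smul_eq_mul, ← mul_add]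
        exact inv_mul_cancel₀ htx
      · have e : ap g x = x + c • one := by
          have e' : ap g x + x = c • one := hc.symm
          rw [← e']
          funext i
          simp only [Pi.add_apply]
          rw [add_left_comm, CharTwo.add_self_eq_zero, add_zero]
        rw [ap_smul, e, smul_add, smul_smul]
    rw [← LinearMap.range_dualMap_eq_dualAnnihilator_ker] at ht
    obtain ⟨ψ, hψ⟩ := ht
    let φ : Module.Dual F V := ψ ∘ₗ (F ∙ (one : V)).mkQ
    have hφ1 : φ one = 0 := by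
      simp [φ, (Submodule.Quotient.mk_eq_zero _).2 (Submodule.mem_span_singleton_self (one : V))]
    let e : Fin 8 → F := fun i => φ (Pi.single i 1)
    let w : V := ![e 7, e 4, e 5, e 6, e 1, e 2, e 3, e 0]
    have hw : ∀ y, pol w y = φ y := by
      intro y
      rw [φ.pi_apply_eq_sum_univ y]
      have hi : ∀ i : Fin 8, φ (fun j => if i = j then 1 else 0) = e i := fun i => by
        refine congrArg φ (funext fun j => ?_)
        simp [Pi.single_apply, eq_comm]
      simp only [hi, Fin.sum_univ_eight, smul_eq_mul]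
      simp [pol, w, CharTwo.sub_eq_add]
      ring
    have htw : tr w = 0 := by
      rw [← hφ1, ← hw]
      simp [pol, tr, one]
    have hkey : ap g⁻¹ w = w + one := by
      have heq : ∀ x, pol (ap g⁻¹ w + w + one) x = 0 := fun x => by
        have h1 : φ (ap g x + x) = t x := LinearMap.congr_fun hψ x
        rw [map_add, ← hw, ← hw] at h1
        have h2 : pol w (ap g x) = pol (ap g⁻¹ w) x := by rw [← pol_ap g (ap g⁻¹ w) x, ap_ap_inv]
        rw [h2] at h1
        have h3 : t x = x 0 + x 7 := rfl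
        have h2' : (2 : F) = 0 := CharTwo.two_eq_zero
        simp only [pol, one, Pi.add_apply, cons_val_zero, cons_val_one, cons_val, h3] at h1 ⊢
        linear_combination h1 + (x 0 + x 7) * h2'
      have hzero : ap g⁻¹ w + w + one = 0 := by
        generalize ap g⁻¹ w + w + one = z at heq ⊢
        funext i
        fin_cases i
        · simpa [pol] using heq (Pi.single 7 1)
        · simpa [pol] using heq (Pi.single 4 1)
        · simpa [pol] using heq (Pi.single 5 1)
        · simpa [pol] using heq (Pi.single 6 1)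
        · simpa [pol] using heq (Pi.single 1 1)
        · simpa [pol] using heq (Pi.single 2 1)
        · simpa [pol] using heq (Pi.single 3 1)
        · simpa [pol] using heq (Pi.single 0 1)
      funext i
      have := congrFun hzero i
      simp only [Pi.add_apply, Pi.zero_apply] at this ⊢
      rwa [add_assoc, CharTwo.add_eq_zero] at this
    have := (ap_invariants g⁻¹ w).2
    rw [hkey] at this
    have h4 := nm_add_one 1 w
    rw [one_smul, htw, this] at h4
    simp at h4
  refine ⟨x, hx, ?_⟩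
  have hn := (ap_invariants g x).2
  rw [hc, nm_add_one, hx, add_eq_left, mul_one, show c ^ 2 + c = c * (c + 1) by ring, mul_eq_zero,
    CharTwo.add_eq_zero] at hn
  rcases hn with rfl | rfl
  · exact Or.inl (by rw [hc]; simp)
  · exact Or.inr (by rw [hc, one_smul])

theorem stab_ne_top {d t : F} (ht0 : t ≠ 0) (ht1 : t ≠ 1) : stab (rep d) ≠ ⊤ := by
  let g : GL (Fin 2) F := Matrix.GeneralLinearGroup.mkOfDetNeZero !![1, t; 0, 1]
    (by simp [Matrix.det_fin_two])
  have hg : (↑g⁻¹ : Matrix (Fin 2) (Fin 2) F) = !![1, t; 0, 1] := by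
    refine Units.inv_eq_of_mul_eq_one_right ?_
    show (!![1, t; 0, 1] : Matrix (Fin 2) (Fin 2) F) * !![1, t; 0, 1] = 1
    ext i j
    fin_cases i <;> fin_cases j <;> simp [CharTwo.add_self_eq_zero]
  have e : rep d = emb !![0, d; 1, 1] := by
    ext i; fin_cases i <;> simp [emb, mk, rep]
  refine ne_top_of_notMem (g := BC85.G2.tau (ProjGenLinGroup.mk g)) fun h => ?_
  have hv : ap (BC85.G2.tau (ProjGenLinGroup.mk g)) (rep d) 0 = t := by
    rw [e, ap_tau_emb, hg]
    simp [emb, mk, g, Matrix.mul_apply]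
  rcases h with h | h
  · rw [h] at hv
    exact ht0 (by rw [← hv]; simp [rep])
  · rw [h] at hv
    exact ht1 (by rw [← hv]; simp [rep, one])

theorem covered [Fintype F] (h4 : 4 ≤ Fintype.card F) : Covered (G2 F) := by
  classical
  obtain ⟨t, ht⟩ : ∃ t : F, t ∉ ({0, 1} : Finset F) := by
    by_contra! h
    have := Finset.card_le_card (show (Finset.univ : Finset F) ⊆ {0, 1} from fun x _ => h x)
    rw [Finset.card_pair zero_ne_one, Finset.card_univ] at this
    omega
  simp only [Finset.mem_insert, Finset.mem_singleton, not_or] at ht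
  let f : F →+ F := AddMonoidHom.mk' (fun μ => μ ^ 2 + μ) fun x y => by
    rw [CharTwo.add_sq]; ring
  have hk : Nat.card f.ker = 2 := by
    have : (f.ker : Set F) = {0, 1} := by
      ext x
      simp only [SetLike.mem_coe, AddMonoidHom.mem_ker, Set.mem_insert_iff, Set.mem_singleton_iff]
      show x ^ 2 + x = 0 ↔ _
      rw [show x ^ 2 + x = x * (x + 1) by ring, mul_eq_zero, CharTwo.add_eq_zero]
    rw [← SetLike.coe_sort_coe, this, Nat.card_coe_set_eq, Set.ncard_pair zero_ne_one]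
  have hidx : f.range.index = 2 := by
    have h1 := f.range.card_mul_index
    have h2 := f.ker.card_mul_index
    rw [AddSubgroup.index_ker, hk] at h2
    rw [← h2, mul_comm 2] at h1
    exact Nat.eq_of_mul_eq_mul_left Nat.card_pos h1
  obtain ⟨δ, hδ⟩ : ∃ δ : F, δ ∉ f.range := by
    by_contra! h
    rw [(AddSubgroup.eq_top_iff' _).2 h, AddSubgroup.index_top] at hidx
    norm_num at hidx
  refine ⟨stab (rep 0), stab (rep δ), stab_ne_top ht.1 ht.2, stab_ne_top ht.1 ht.2, fun g => ?_⟩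
  obtain ⟨x, hx, hg⟩ := exists_plane g
  obtain ⟨μ, hμ⟩ : ∃ μ : F, nm x + (μ ^ 2 + μ) = 0 ∨ nm x + (μ ^ 2 + μ) = δ := by
    by_cases hA : nm x ∈ f.range
    · obtain ⟨μ, hμ⟩ := hA
      exact ⟨μ, Or.inl (by rw [← hμ]; exact CharTwo.add_self_eq_zero _)⟩
    · have : nm x + δ ∈ f.range := by
        rw [AddSubgroup.add_mem_iff_of_index_two hidx]
        exact iff_of_false hA hδ
      obtain ⟨μ, hμ⟩ := this
      refine ⟨μ, Or.inr ?_⟩
      rw [show μ ^ 2 + μ = nm x + δ from hμ, ← add_assoc, CharTwo.add_self_eq_zero, zero_add]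
  obtain ⟨φ, hφ⟩ := conj_rep (x + μ • one) (by rw [tr_add_one, hx])
  rw [nm_add_one, hx, mul_one] at hφ
  have hg' : ap g (x + μ • one) = x + μ • one ∨ ap g (x + μ • one) = x + μ • one + one := by
    rw [ap_add, ap_smul, ap_one_eq]
    rcases hg with h | h <;> rw [h]
    · exact Or.inl rfl
    · exact Or.inr (add_right_comm _ _ _)
  have key : φ * g * φ⁻¹ ∈ stab (rep (nm x + (μ ^ 2 + μ))) := by
    show _ ∨ _
    rw [← hφ, ap_mul, ap_mul, ap_inv_ap]
    rcases hg' with h | h <;> rw [h]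
    · exact Or.inl rfl
    · exact Or.inr (by rw [ap_add, ap_one_eq])
  refine ⟨φ, hμ.imp ?_ ?_⟩ <;> intro h <;> rwa [h] at key

end Cfsg.Agent.Cover98.G2Even
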