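import Cfsg.Agent.Cover98.Basic
import Cfsg.Agent.Lib.Unitary.Center
import Cfsg.Agent.Lib.Unitary.Count
import Cfsg.Agent.Lib.Unitary.Moves

/-!
Tools for `SU_n`: stabilisers of subspaces, transitivity with determinant repair, and the
behaviour of polynomials in a unitary element (helper98, S2500).
-/

set_option autoImplicit false

namespace Cfsg.Agent.Cover98.Herm

open Polynomial Cfsg.Agent.Unitary Matrix
open scoped Matrix

variable {F : Type*} [Field F] {n q : ℕ}

local notation "V" => (Fin n → F)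

/-- The endomorphism of a group element. -/
noncomputable def op (g : SU n F q) : Module.End F (Fin n → F) :=
  Matrix.toLinAlgEquiv' (g.1 : Matrix (Fin n) (Fin n) F)

theorem op_apply (g : SU n F q) (v : V) : op g v = g • v := rfl

theorem op_mul (g h : SU n F q) : op (g * h) = op g * op h := map_mul Matrix.toLinAlgEquiv' _ _

theorem op_one : op (1 : SU n F q) = 1 := map_one Matrix.toLinAlgEquiv'

theorem op_pow (g : SU n F q) (k : ℕ) : op (g ^ k) = op g ^ k := by
  induction k with
  | zero => rw [pow_zero, pow_zero, op_one]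
  | succ k ih => rw [pow_succ, pow_succ, op_mul, ih]

/-- The stabiliser of a subspace. -/
def stab (W : Submodule F V) : Subgroup (SU n F q) where
  carrier := {g | ∀ v : V, v ∈ W ↔ g • v ∈ W}
  one_mem' v := by rw [one_smul]
  mul_mem' {a b} ha hb v := by rw [mul_smul, ← ha, ← hb]
  inv_mem' {a} ha v := by rw [ha (a⁻¹ • v), smul_inv_smul]

theorem mem_stab_of_maps {W : Submodule F V} {g : SU n F q} (h : ∀ w ∈ W, g • w ∈ W) :
    g ∈ stab W := by
  intro v
  refine ⟨h v, fun hv => ?_⟩
  have hinj : Function.Injective (op g) := fun a b e => MulAction.injective g e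
  have heq : W.map (op g) = W := Submodule.eq_of_le_of_finrank_eq
    (Submodule.map_le_iff_le_comap.2 h)
    (LinearEquiv.finrank_eq (Submodule.equivMapOfInjective (op g) hinj W)).symm
  rw [← heq] at hv
  obtain ⟨w, hw, hwv⟩ := hv
  exact hinj hwv ▸ hw

theorem conj_mem_stab {W W' : Submodule F V} {g x : SU n F q} (hg : g ∈ stab W')
    (hx : ∀ v : V, v ∈ W ↔ x • v ∈ W') : x⁻¹ * g * x ∈ stab W := fun v => by
  rw [hx v, hx ((x⁻¹ * g * x) • v), mul_smul, mul_smul, smul_inv_smul]
  exact hg _

/-- A split polynomial killing `W` modulo `N` gives an eigenvector modulo `N` in `W`. -/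
theorem exists_near {K W' : Type*} [Field K] [AddCommGroup W'] [Module K W'] {S : Module.End K W'}
    {W N : Submodule K W'} (hW : ∀ w ∈ W, S w ∈ W) (f : K[X]) (h0 : f ≠ 0)
    (hsplit : ∀ p : K[X], Irreducible p → p ∣ f → p.natDegree = 1)
    (hf : ∀ w ∈ W, aeval S f w ∈ N) (hne : ¬ W ≤ N) :
    ∃ u ∈ W, u ∉ N ∧ ∃ μ : K, S u - μ • u ∈ N := by
  induction f using UniqueFactorizationMonoid.induction_on_prime with
  | h₁ => exact absurd rfl h0
  | h₂ a ha =>
    obtain ⟨c, hc, rfl⟩ := Polynomial.isUnit_iff.1 ha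
    refine absurd (fun w hw => ?_) hne
    have := hf w hw
    rw [aeval_C, Module.algebraMap_end_apply] at this
    simpa [inv_smul_smul₀ hc.ne_zero] using N.smul_mem c⁻¹ this
  | h₃ a p ha hp ih =>
    have hd := hsplit p hp.irreducible (dvd_mul_right p a)
    by_cases hall : ∀ w ∈ W, aeval S a w ∈ N
    · exact ih ha (fun r hr hdr => hsplit r hr (hdr.mul_left p)) hall
    · push Not at hall
      obtain ⟨w, hw, hwN⟩ := hall
      have hmem : ∀ e : K[X], ∀ w ∈ W, aeval S e w ∈ W := by
        intro e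
        induction e using Polynomial.induction_on' with
        | add f f' hf hf' =>
          intro w hw; rw [map_add, LinearMap.add_apply]; exact W.add_mem (hf w hw) (hf' w hw)
        | monomial k b =>
          intro w hw
          rw [aeval_monomial, Module.End.mul_apply, Module.algebraMap_end_apply]
          refine W.smul_mem b ?_
          induction k with
          | zero => simpa using hw
          | succ k ihk => rw [pow_succ', Module.End.mul_apply]; exact hW _ ihk
      refine ⟨_, hmem a w hw, hwN, ?_⟩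
      obtain ⟨b, c, hb, rfl⟩ : ∃ b c : K, b ≠ 0 ∧ p = C b * X + C c := by
        refine ⟨p.coeff 1, p.coeff 0, ?_, Polynomial.eq_X_add_C_of_natDegree_le_one hd.le⟩
        rw [← hd]; exact leadingCoeff_ne_zero.2 hp.ne_zero
      refine ⟨-(b⁻¹ * c), ?_⟩
      have := N.smul_mem b⁻¹ (hf w hw)
      rw [map_mul, Module.End.mul_apply, map_add, map_mul, aeval_C, aeval_C, aeval_X,
        LinearMap.add_apply, Module.End.mul_apply, Module.algebraMap_end_apply,
        Module.algebraMap_end_apply, smul_add, inv_smul_smul₀ hb, smul_smul] at this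
      rwa [neg_smul, sub_neg_eq_add]

variable [Fintype F] (hF : Fintype.card F = q ^ 2)

theorem center_le_stab (hn : 2 ≤ n) (W : Submodule F V) (hF : Fintype.card F = q ^ 2) :
    Subgroup.center (SU n F q) ≤ stab W := by
  intro g hg
  obtain ⟨r, hr⟩ := (Unitary.mem_center_iff hF hn).1 hg
  exact mem_stab_of_maps fun w hw => by rw [hr]; exact W.smul_mem r hw

/-- A diagonal element of any determinant. -/
theorem exists_diag {a : F} (ha : a ^ (q + 1) = 1) (hF : Fintype.card F = q ^ 2) (i : Fin n) :
    ∃ D : GU n F q, (detGU D : F) = a ∧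
      ∀ (x : V) (j : Fin n), (D • x) j = if j = i then a * x j else x j := by
  have hM : ∀ x y : V, herm q (Matrix.diagonal (Function.update 1 i a) *ᵥ x)
      (Matrix.diagonal (Function.update 1 i a) *ᵥ y) = herm q x y := by
    intro x y
    refine Finset.sum_congr rfl fun k _ => ?_
    rw [Matrix.mulVec_diagonal, Matrix.mulVec_diagonal]
    by_cases hk : k = i
    · subst hk
      rw [Function.update_self, mul_pow]
      calc a * x k * (a ^ q * y k ^ q) = a ^ (q + 1) * (x k * y k ^ q) := by rw [pow_succ]; ring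
        _ = _ := by rw [ha, one_mul]
    · simp [hk]
  refine ⟨mkGU hF _ hM, ?_, fun x j => ?_⟩
  · show (Matrix.diagonal (Function.update (1 : V) i a)).det = a
    rw [Matrix.det_diagonal, Finset.prod_update_of_mem (Finset.mem_univ i)]
    simp
  · rw [mkGU_smul, Matrix.mulVec_diagonal]
    by_cases hj : j = i
    · subst hj; simp
    · simp [hj]

include hF

/-- Hilbert 90. -/
theorem exists_ratio {d : F} (hd : d ^ (q + 1) = 1) : ∃ a : F, a ≠ 0 ∧ a * (a ^ q)⁻¹ = d := by
  obtain ⟨b, hb⟩ : ∃ b : F, b + d * b ^ q ≠ 0 := by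
    by_contra! h
    have h1 := h 1
    rw [one_pow, mul_one] at h1
    refine conjHom_ne_id hF (RingHom.ext fun b => ?_)
    have h2 := h b
    rw [eq_neg_of_add_eq_zero_right h1] at h2
    show b ^ q = b
    linear_combination -h2
  have hd0 : d ≠ 0 := fun h => by simp [h] at hd
  refine ⟨b + d * b ^ q, hb, ?_⟩
  rw [← div_eq_mul_inv, div_eq_iff (pow_ne_zero _ hb), add_pow_q hF, mul_pow, pow_q_pow_q hF]
  rw [pow_succ] at hd
  linear_combination -b * hd

/-- The element scaling an isotropic vector by `a`. -/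
theorem exists_scale {u v : V} (hu : herm q u u = 0) (hv : herm q v v = 0) (huv : herm q u v = 1)
    {a : F} (ha : a ≠ 0) :
    ∃ D : GU n F q, (detGU D : F) = a * (a ^ q)⁻¹ ∧
      ∀ x : V, D • x = x + ((a - 1) * herm q x v) • u + (((a ^ q)⁻¹ - 1) * herm q x u) • v := by
  have hvu : herm q v u = 1 := herm_one_swap hF huv
  have haq : a ^ q ≠ 0 := pow_ne_zero _ ha
  set b : F := (a ^ q)⁻¹ with hb
  let U : Matrix (Fin n) (Fin 2) F := Matrix.of fun i j => ![u i, v i] j
  let W : Matrix (Fin 2) (Fin n) F :=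
    Matrix.of fun i j => ![(a - 1) * v j ^ q, (b - 1) * u j ^ q] i
  have hM : ∀ x : V, (1 + U * W) *ᵥ x =
      x + ((a - 1) * herm q x v) • u + ((b - 1) * herm q x u) • v := by
    intro x
    have e0 : (W *ᵥ x) 0 = (a - 1) * herm q x v := by
      show ∑ j, (a - 1) * v j ^ q * x j = (a - 1) * ∑ j, x j * v j ^ q
      rw [Finset.mul_sum]
      exact Finset.sum_congr rfl fun j _ => by ring
    have e1 : (W *ᵥ x) 1 = (b - 1) * herm q x u := by
      show ∑ j, (b - 1) * u j ^ q * x j = (b - 1) * ∑ j, x j * u j ^ q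
      rw [Finset.mul_sum]
      exact Finset.sum_congr rfl fun j _ => by ring
    rw [Matrix.add_mulVec, Matrix.one_mulVec, ← Matrix.mulVec_mulVec, add_assoc]
    congr 1
    funext i
    show ∑ j, U i j * (W *ᵥ x) j = _
    rw [Fin.sum_univ_two, e0, e1]
    simp [U]
    ring
  have hbq : b ^ q * a = 1 := by rw [hb, inv_pow, pow_q_pow_q hF, inv_mul_cancel₀ ha]
  have hba : b * a ^ q = 1 := inv_mul_cancel₀ haq
  have hform : ∀ x y : V, herm q ((1 + U * W) *ᵥ x) ((1 + U * W) *ᵥ y) = herm q x y := by
    intro x y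
    rw [hM, hM]
    simp only [herm_add_left, herm_add_right hF, herm_smul_left, herm_smul_right hF, hu, hv, huv,
      hvu, mul_pow, sub_pow_q hF, one_pow]
    rw [herm_swap hF y v, herm_swap hF y u]
    linear_combination (herm q x v * herm q y u ^ q) * hbq + (herm q x u * herm q y v ^ q) * hba
  refine ⟨mkGU hF _ hform, ?_, fun x => by rw [mkGU_smul, hM]⟩
  show (1 + U * W).det = a * b
  rw [Matrix.det_one_add_mul_comm, Matrix.det_fin_two]
  have e : ∀ (c : F) (x y : V), ∑ j, c * x j ^ q * y j = c * herm q y x := fun c x y => by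
    show _ = c * ∑ j, y j * x j ^ q
    rw [Finset.mul_sum]
    exact Finset.sum_congr rfl fun j _ => by ring
  simp [Matrix.add_apply, Matrix.mul_apply, U, W, e, hu, hv, huv, hvu]

/-- A `GU`-element moving `W` to `W'` gives one in `SU` if the stabiliser of `W` has all
determinants. -/
theorem exists_SU_move {W W' : Submodule F V} (T : GU n F q)
    (hT : ∀ v : V, v ∈ W ↔ T • v ∈ W')
    (hD : ∀ d : F, d ^ (q + 1) = 1 → ∃ D : GU n F q, (detGU D : F) = d ∧ ∀ w ∈ W, D • w ∈ W) :
    ∃ x : SU n F q, ∀ v : V, v ∈ W ↔ x • v ∈ W' := by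
  obtain ⟨D, hDd, hDW⟩ := hD ((detGU T : F))⁻¹ (by rw [inv_pow, det_norm hF, inv_one])
  have hker : T * D ∈ (detGU : GU n F q →* Fˣ).ker := by
    rw [MonoidHom.mem_ker, map_mul]
    refine Units.ext ?_
    rw [Units.val_mul, hDd, Units.val_one]
    exact mul_inv_cancel₀ (Units.ne_zero _)
  rw [← range_toGU] at hker
  obtain ⟨x, hx⟩ := hker
  refine ⟨x, fun v => ?_⟩
  rw [← toGU_smul, hx, mul_smul, ← hT]
  refine ⟨hDW v, fun hv => ?_⟩
  let L : Module.End F V :=
    Matrix.toLinAlgEquiv' ((D : GL (Fin n) F) : Matrix (Fin n) (Fin n) F)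
  have hinj : Function.Injective L := fun a b e => MulAction.injective D e
  have heq : W.map L = W := Submodule.eq_of_le_of_finrank_eq
    (Submodule.map_le_iff_le_comap.2 hDW)
    (LinearEquiv.finrank_eq (Submodule.equivMapOfInjective L hinj W)).symm
  rw [← heq] at hv
  obtain ⟨w, hw, hwv⟩ := hv
  exact hinj hwv ▸ hw

/-- All non-isotropic lines are in one orbit. -/
theorem exists_move_line (hn : 2 ≤ n) {v : V} (hv : herm q v v ≠ 0) :
    ∃ x : SU n F q, ∀ w : V,
      w ∈ F ∙ (eI ⟨0, by omega⟩ : V) ↔ x • w ∈ F ∙ v := by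
  set i0 : Fin n := ⟨0, by omega⟩
  obtain ⟨a, ha⟩ := exists_norm_eq hF (t := (herm q v v)⁻¹)
    (by rw [inv_pow, herm_self_fixed hF])
  have ha0 : a ≠ 0 := by
    rintro rfl
    rw [zero_pow (Nat.succ_ne_zero q)] at ha
    exact hv (inv_eq_zero.1 ha.symm)
  have hav : herm q (a • v) (a • v) = 1 := by
    rw [herm_smul_left, herm_smul_right hF, ← mul_assoc, ← pow_succ', ha, inv_mul_cancel₀ hv]
  obtain ⟨T, -, hT⟩ := exists_fixGU_smul_eq hF (S := (∅ : Finset (Fin n)))
    (x := (eI i0 : V)) (x' := a • v) (by simp [supp_empty]) (by simp [supp_empty])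
    (by rw [hav, herm_eI_eI hF, if_pos rfl]) (by rw [herm_eI_eI hF, if_pos rfl]; exact one_ne_zero)
  refine exists_SU_move hF T (fun w => ?_) fun d hd => ?_
  · rw [Submodule.mem_span_singleton, Submodule.mem_span_singleton]
    constructor
    · rintro ⟨c, rfl⟩
      exact ⟨c * a, by rw [smul_comm T c, hT, smul_smul]⟩
    · rintro ⟨c, hc⟩
      refine ⟨c * a⁻¹, MulAction.injective T ?_⟩
      show T • ((c * a⁻¹) • (eI i0 : V)) = T • w
      rw [smul_comm T _ (eI i0 : V), hT, smul_smul, mul_assoc, inv_mul_cancel₀ ha0, mul_one, hc]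
  · obtain ⟨D, hDd, hD⟩ := exists_diag hd hF (⟨1, by omega⟩ : Fin n)
    refine ⟨D, hDd, fun w hw => ?_⟩
    obtain ⟨c, rfl⟩ := Submodule.mem_span_singleton.1 hw
    refine Submodule.mem_span_singleton.2 ⟨c, funext fun j => ?_⟩
    rw [hD]
    by_cases hj : j = (⟨1, by omega⟩ : Fin n)
    · subst hj; simp [eI, i0, Fin.ext_iff]
    · rw [if_neg hj]

/-! ### Polynomials in a unitary element -/

theorem herm_op_pow (g : SU n F q) (k : ℕ) (x y : V) :
    herm q ((op g ^ k) x) y = herm q x ((op g⁻¹ ^ k) y) := by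
  rw [← op_pow, ← op_pow, op_apply, op_apply, ← herm_smul_SU (g ^ k) x, inv_pow, smul_inv_smul]

theorem herm_aeval (g : SU n F q) (f : F[X]) (x y : V) :
    herm q (aeval (op g) f x) y = herm q x (aeval (op g⁻¹) (f.map (conjHom hF)) y) := by
  induction f using Polynomial.induction_on' with
  | add f f' hf hf' =>
    rw [Polynomial.map_add, map_add, map_add, LinearMap.add_apply, LinearMap.add_apply,
      herm_add_left, herm_add_right hF, hf, hf']
  | monomial k a =>
    rw [Polynomial.map_monomial, aeval_monomial, aeval_monomial, Module.End.mul_apply,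
      Module.End.mul_apply, Module.algebraMap_end_apply, Module.algebraMap_end_apply,
      herm_smul_left, herm_smul_right hF, conjHom_apply, pow_q_pow_q hF, herm_op_pow hF]

theorem conj_conj (p : F[X]) : (p.map (conjHom hF)).map (conjHom hF) = p := by
  rw [Polynomial.map_map]
  ext k
  simp [conjHom_apply, pow_q_pow_q hF]

theorem eval_conj (p : F[X]) (x : F) :
    (p.map (conjHom hF)).eval x = (p.eval (x ^ q)) ^ q := by
  have e : x = conjHom hF (x ^ q) := (pow_q_pow_q hF x).symm
  conv_lhs => rw [e, Polynomial.eval_map, Polynomial.eval₂_at_apply]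
  rfl

/-- An irreducible polynomial of even degree is not its own conjugate reciprocal. -/
theorem no_selfConj {p : F[X]} (hp : Irreducible p) (hd : Even p.natDegree) {s : F[X]}
    (h1 : p ∣ X * s - 1) (h2 : p ∣ (p.map (conjHom hF)).comp s) : False := by
  haveI := Fact.mk hp
  haveI : Module.Finite F (AdjoinRoot p) := (AdjoinRoot.powerBasis hp.ne_zero).finite
  haveI : Finite (AdjoinRoot p) := Module.finite_of_finite F
  set K := AdjoinRoot p
  set μ : K := AdjoinRoot.root p with hμ
  obtain ⟨c, k, hc, -, hchar, hq⟩ := exists_prime_pow hF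
  haveI := hchar
  haveI : Fact c.Prime := ⟨hc⟩
  haveI : CharP K c := charP_of_injective_algebraMap (algebraMap F K).injective c
  let φ : K →+* K := iterateFrobenius K c k
  have hφ : ∀ x : K, φ x = x ^ q := fun x => by rw [iterateFrobenius_def, hq]
  have hs : aeval μ s = μ⁻¹ := by
    refine eq_inv_of_mul_eq_one_right ?_
    have : aeval μ (X * s - 1) = 0 := by rw [AdjoinRoot.aeval_eq]; exact AdjoinRoot.mk_eq_zero.2 h1
    rwa [map_sub, map_mul, aeval_X, map_one, sub_eq_zero] at this
  have hν : aeval ((μ⁻¹) ^ q) p = 0 := by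
    have h3 : aeval μ⁻¹ (p.map (conjHom hF)) = 0 := by
      rw [← hs, ← aeval_comp, AdjoinRoot.aeval_eq]
      exact AdjoinRoot.mk_eq_zero.2 h2
    have h4 := congrArg φ h3
    rw [map_zero, aeval_def, hom_eval₂, hφ, eval₂_map] at h4
    have e : (φ.comp (algebraMap F K)).comp (conjHom hF) = algebraMap F K := by
      refine RingHom.ext fun a => ?_
      show φ (algebraMap F K (conjHom hF a)) = algebraMap F K a
      rw [hφ, ← map_pow, conjHom_apply, pow_q_pow_q hF]
    rw [e] at h4
    rw [aeval_def]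
    exact h4
  let ρ : K →ₐ[F] K := AdjoinRoot.liftAlgHom p (Algebra.ofId F K) ((μ⁻¹) ^ q) hν
  obtain ⟨⟨i, -⟩, hi : FiniteField.frobeniusAlgHom F K ^ i = ρ⟩ :=
    (FiniteField.bijective_frobeniusAlgHom_pow F K).2 ρ
  have hpow : ∀ j : ℕ, (FiniteField.frobeniusAlgHom F K ^ j) μ = μ ^ (Fintype.card F ^ j) := by
    intro j
    induction j with
    | zero => simp
    | succ j ih =>
      rw [pow_succ', AlgHom.mul_apply, ih,
        pow_succ, pow_mul]
      rfl
  have hμi : μ ^ (Fintype.card F ^ i) = (μ⁻¹) ^ q := by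
    rw [← hpow, hi]
    exact AdjoinRoot.liftAlgHom_root _ _ _ hν
  have key : μ ^ (Fintype.card F ^ (i + i)) = μ ^ (Fintype.card F ^ 1) := by
    calc μ ^ (Fintype.card F ^ (i + i)) = (μ ^ (Fintype.card F ^ i)) ^ (Fintype.card F ^ i) := by
          rw [← pow_mul, pow_add]
      _ = ((μ ^ (Fintype.card F ^ i))⁻¹) ^ q := by
          rw [hμi, ← pow_mul, mul_comm, pow_mul, inv_pow, hμi]
      _ = μ ^ (Fintype.card F ^ 1) := by
          rw [hμi, ← inv_pow, inv_inv, ← pow_mul, pow_one, hF, sq]
  rw [← hpow, ← hpow] at key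
  have hext : FiniteField.frobeniusAlgHom F K ^ (i + i) = FiniteField.frobeniusAlgHom F K ^ 1 :=
    AdjoinRoot.algHom_ext key
  rw [← pow_mod_orderOf _ (i + i), ← pow_mod_orderOf _ 1,
    FiniteField.orderOf_frobeniusAlgHom] at hext
  have hpos : 0 < Module.finrank F K := Module.finrank_pos
  have heq : (i + i) % Module.finrank F K = 1 % Module.finrank F K :=
    congrArg Fin.val ((FiniteField.bijective_frobeniusAlgHom_pow F K).1
      (a₁ := ⟨(i + i) % Module.finrank F K, Nat.mod_lt _ hpos⟩)
      (a₂ := ⟨1 % Module.finrank F K, Nat.mod_lt _ hpos⟩) hext)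
  rw [(AdjoinRoot.powerBasis hp.ne_zero).finrank, AdjoinRoot.powerBasis_dim] at heq
  obtain ⟨d, hd⟩ := hd
  have := Nat.ModEq.of_dvd (show 2 ∣ p.natDegree by omega) heq
  rw [Nat.ModEq] at this
  omega

/-- The kernel of an irreducible polynomial of even degree is totally isotropic. -/
theorem ker_isotropic {p : F[X]} (hp : Irreducible p) (hd : Even p.natDegree) (g : SU n F q)
    {x y : V} (hx : aeval (op g) p x = 0) (hy : aeval (op g) p y = 0) : herm q x y = 0 := by
  haveI : Finite (SU n F q) :=
    Finite.of_injective (fun g : SU n F q => (g.1 : Matrix (Fin n) (Fin n) F))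
      fun a b h => Subtype.ext (Subtype.ext h)
  set s : F[X] := X ^ (orderOf g - 1) with hs
  have hinv : op g⁻¹ = aeval (op g) s := by
    rw [hs, map_pow, aeval_X, ← op_pow]
    congr 1
    refine inv_eq_of_mul_eq_one_right ?_
    rw [← pow_succ', Nat.sub_add_cancel (orderOf_pos g), pow_orderOf_eq_one]
  set W := LinearMap.ker (aeval (op g) p)
  let R : Module.End F V := aeval (op g) ((p.map (conjHom hF)).comp s)
  have hRW : ∀ w ∈ W, R w ∈ W := fun w hw => by
    show aeval (op g) p (R w) = 0
    rw [← Module.End.mul_apply, ← map_mul, mul_comm, map_mul, Module.End.mul_apply,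
      show aeval (op g) p w = 0 from hw, map_zero]
  have hXs : ∀ w : V, aeval (op g) (X * s - 1) w = 0 := fun w => by
    rw [map_sub, map_mul, aeval_X, map_one, ← hinv, ← op_mul, mul_inv_cancel, op_one, sub_self,
      LinearMap.zero_apply]
  have hinjR : Function.Injective (R.restrict hRW) := by
    rw [injective_iff_map_eq_zero]
    rintro ⟨w, hw⟩ hRw
    have hRw' : R w = 0 := congrArg Subtype.val hRw
    by_contra hne
    have hw0 : w ≠ 0 := fun h => hne (Subtype.ext h)
    have hdvd : ∀ f : F[X], aeval (op g) f w = 0 → p ∣ f := by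
      intro f hf
      by_contra hndvd
      obtain ⟨a, b, hab⟩ := (hp.coprime_iff_not_dvd).2 hndvd
      have := congrArg (fun f : F[X] => aeval (op g) f w) hab
      simp only [map_add, map_mul, LinearMap.add_apply, Module.End.mul_apply, hf,
        show aeval (op g) p w = 0 from hw, map_zero, add_zero, map_one] at this
      exact hw0 this.symm
    exact no_selfConj hF hp hd (hdvd _ (hXs w)) (hdvd _ hRw')
  obtain ⟨⟨y', hy'⟩, hRy⟩ := (LinearMap.injective_iff_surjective.1 hinjR) ⟨y, hy⟩
  have hRy' : R y' = y := congrArg Subtype.val hRy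
  rw [← hRy', show R = aeval (op g⁻¹) (p.map (conjHom hF)) by rw [hinv]; exact aeval_comp (op g),
    ← herm_aeval hF, hx]
  exact hermForm_zero_left y'
where
  hermForm_zero_left (y : V) : herm q (0 : V) y = 0 := by
    rw [← zero_smul F (0 : V), herm_smul_left, zero_mul]

/-- A totally isotropic set of eigenvectors is orthogonal to everything in the image. -/
theorem isotropic_sub {E : Submodule F V} (h : ∀ a ∈ E, herm q a a = 0) {a b : V} (ha : a ∈ E)
    (hb : b ∈ E) : herm q a b = 0 := by
  by_contra hne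
  refine conjHom_ne_id hF (RingHom.ext fun t => ?_)
  set z := herm q a b
  have hpol : ∀ r : F, r * z ^ q + r ^ q * z = 0 := fun r => by
    have := h _ (E.add_mem ha (E.smul_mem r hb))
    rw [herm_add_left, herm_add_right hF, herm_add_right hF, h a ha, herm_smul_left,
      herm_smul_left, herm_smul_right hF, herm_smul_right hF, h b hb, herm_swap hF a b] at this
    linear_combination this
  have h1 := hpol 1
  rw [one_pow, one_mul, one_mul] at h1
  have h2 := hpol t
  show t ^ q = t
  refine sub_eq_zero.1 ((mul_eq_zero.1 (?_ : (t ^ q - t) * z = 0)).resolve_right hne)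
  linear_combination h2 - t * h1

end Cfsg.Agent.Cover98.Herm
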