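import Cfsg.Agent.Cover98.Basic

/-!
`PSL_n(F)`, `n ∈ {2, 3, 4}`: conjugates of a point stabiliser and of the centraliser of a fixed
root of an irreducible polynomial of degree `n`, `n`, `2` cover (helper98, S2500).
-/

set_option autoImplicit false

namespace Cfsg.Agent.Cover98.Linear

open Polynomial Matrix

variable {F : Type*} [Field F] {n : ℕ}

local notation "SL" => Matrix.SpecialLinearGroup (Fin n) F

/-- A synonym of `F^n` carrying the structure of an `F[X]/p`-space given by `φ`. -/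
def Twist {K : Type*} [Field K] [Algebra F K] (_φ : K →ₐ[F] Module.End F (Fin n → F)) : Type _ :=
  Fin n → F

section Twist

variable {K : Type*} [Field K] [Algebra F K] (φ : K →ₐ[F] Module.End F (Fin n → F))

instance : AddCommGroup (Twist φ) := inferInstanceAs (AddCommGroup (Fin n → F))
instance : Module F (Twist φ) := inferInstanceAs (Module F (Fin n → F))
instance : Module.Finite F (Twist φ) := inferInstanceAs (Module.Finite F (Fin n → F))

instance twistModule : Module K (Twist φ) where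
  smul k v := φ k v
  one_smul v := by show φ 1 v = v; rw [map_one]; rfl
  mul_smul a b v := by show φ (a * b) v = φ a (φ b v); rw [map_mul]; rfl
  smul_zero a := map_zero (φ a)
  smul_add a v w := map_add (φ a) v w
  add_smul a b v := by show φ (a + b) v = φ a v + φ b v; rw [map_add]; rfl
  zero_smul v := by show φ 0 v = 0; rw [map_zero]; rfl

theorem twist_smul (k : K) (v : Twist φ) : k • v = φ k v := rfl

instance : IsScalarTower F K (Twist φ) where
  smul_assoc a k v := by
    show φ (a • k) v = a • φ k v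
    rw [map_smul]; rfl

end Twist

/-- Two roots of one irreducible polynomial are similar, by a map of any determinant. -/
theorem exists_conj [Fintype F] {p : F[X]} (hp : Irreducible p) (hn : 0 < n)
    {A B : Matrix (Fin n) (Fin n) F} (hA : aeval A p = 0) (hB : aeval B p = 0) :
    ∃ P : SL, (P : Matrix (Fin n) (Fin n) F) * A = B * (P : Matrix (Fin n) (Fin n) F) := by
  haveI := Fact.mk hp
  haveI : Module.Finite F (AdjoinRoot p) := (AdjoinRoot.powerBasis hp.ne_zero).finite
  haveI : Finite (AdjoinRoot p) := Module.finite_of_finite F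
  set K := AdjoinRoot p
  let L : Matrix (Fin n) (Fin n) F → Module.End F (Fin n → F) := Matrix.toLinAlgEquiv'
  have hφ : ∀ C : Matrix (Fin n) (Fin n) F, aeval C p = 0 →
      ∃ φ : K →ₐ[F] Module.End F (Fin n → F), φ (AdjoinRoot.root p) = L C := by
    intro C hC
    refine ⟨(Ideal.Quotient.liftₐ (Ideal.span {p}) (aeval (L C)) ?_), ?_⟩
    · intro x hx
      obtain ⟨c, rfl⟩ := Ideal.mem_span_singleton.1 hx
      rw [map_mul, show L C = (Matrix.toLinAlgEquiv' : Matrix (Fin n) (Fin n) F ≃ₐ[F] _).toAlgHom C from rfl,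
        aeval_algHom_apply, hC, map_zero, zero_mul]
    · show aeval (L C) (X : F[X]) = L C
      exact aeval_X _
  obtain ⟨φ, hφr⟩ := hφ A hA
  obtain ⟨ψ, hψr⟩ := hφ B hB
  haveI : Module.Finite K (Twist φ) := Module.Finite.right F K (Twist φ)
  haveI : Module.Finite K (Twist ψ) := Module.Finite.right F K (Twist ψ)
  have hd : ∀ χ : K →ₐ[F] Module.End F (Fin n → F),
      Module.finrank F K * Module.finrank K (Twist χ) = n := fun χ => by
    rw [Module.finrank_mul_finrank]
    exact Module.finrank_fin_fun F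
  have hK0 : 0 < Module.finrank F K := Module.finrank_pos
  have heq : Module.finrank K (Twist φ) = Module.finrank K (Twist ψ) :=
    Nat.eq_of_mul_eq_mul_left hK0 ((hd φ).trans (hd ψ).symm)
  let e : Twist φ ≃ₗ[K] Twist ψ := LinearEquiv.ofFinrankEq _ _ heq
  let eF : (Fin n → F) ≃ₗ[F] (Fin n → F) := e.restrictScalars F
  set M : Matrix (Fin n) (Fin n) F := LinearMap.toMatrix' eF.toLinearMap with hM
  have hMA : ∀ v, M *ᵥ (A *ᵥ v) = B *ᵥ (M *ᵥ v) := by
    intro v
    rw [hM, LinearMap.toMatrix'_mulVec, LinearMap.toMatrix'_mulVec]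
    let v' : Twist φ := v
    have h : e (φ (AdjoinRoot.root p) v') = ψ (AdjoinRoot.root p) (e v') :=
      e.map_smul (AdjoinRoot.root p) v'
    rw [hφr, hψr] at h
    exact h
  have hMdet : M.det ≠ 0 := by
    rw [hM, LinearMap.det_toMatrix']
    exact (LinearEquiv.isUnit_det' eF).ne_zero
  -- fix the determinant by a `K`-linear map
  obtain ⟨a, ha⟩ := FiniteField.norm_surjective F K M.det⁻¹
  have hm : 0 < Module.finrank K (Twist ψ) := by
    by_contra h
    have := hd ψ
    rw [Nat.eq_zero_of_not_pos h, mul_zero] at this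
    omega
  let b := Module.finBasis K (Twist ψ)
  let f : Twist ψ →ₗ[K] Twist ψ :=
    Matrix.toLin b b (Matrix.diagonal (Function.update 1 (⟨0, hm⟩ : Fin _) a))
  have hfdet : f.det = a := by
    rw [LinearMap.det_toLin, Matrix.det_diagonal, Finset.prod_update_of_mem (Finset.mem_univ _)]
    simp
  let fF : (Fin n → F) →ₗ[F] (Fin n → F) := f.restrictScalars F
  have hfF : fF.det = M.det⁻¹ := by
    rw [show fF.det = (f.restrictScalars F : Twist ψ →ₗ[F] Twist ψ).det from rfl,
      LinearMap.det_restrictScalars, hfdet, ha]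
  set N : Matrix (Fin n) (Fin n) F := LinearMap.toMatrix' fF with hN
  have hNB : ∀ v, N *ᵥ (B *ᵥ v) = B *ᵥ (N *ᵥ v) := by
    intro v
    rw [hN, LinearMap.toMatrix'_mulVec, LinearMap.toMatrix'_mulVec]
    let v' : Twist ψ := v
    have h : f (ψ (AdjoinRoot.root p) v') = ψ (AdjoinRoot.root p) (f v') :=
      f.map_smul (AdjoinRoot.root p) v'
    rw [hψr] at h
    exact h
  have hdet : (N * M).det = 1 := by
    rw [det_mul, hN, LinearMap.det_toMatrix', hfF, inv_mul_cancel₀ hMdet]
  refine ⟨⟨N * M, hdet⟩, Matrix.ext_of_mulVec_single fun i => ?_⟩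
  show ((N * M) * A) *ᵥ Pi.single i 1 = (B * (N * M)) *ᵥ Pi.single i 1
  simp only [← Matrix.mulVec_mulVec]
  rw [hMA, hNB]

theorem coe_inv_mul (g : SL) :
    ((g⁻¹ : SL) : Matrix (Fin n) (Fin n) F) * (g : Matrix (Fin n) (Fin n) F) = 1 := by
  rw [← Matrix.SpecialLinearGroup.coe_mul, inv_mul_cancel, Matrix.SpecialLinearGroup.coe_one]

theorem coe_mul_inv (g : SL) :
    (g : Matrix (Fin n) (Fin n) F) * ((g⁻¹ : SL) : Matrix (Fin n) (Fin n) F) = 1 := by
  rw [← Matrix.SpecialLinearGroup.coe_mul, mul_inv_cancel, Matrix.SpecialLinearGroup.coe_one]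

theorem inv_mulVec (g : SL) {v w : Fin n → F} (h : (g : Matrix (Fin n) (Fin n) F) *ᵥ v = w) :
    ((g⁻¹ : SL) : Matrix (Fin n) (Fin n) F) *ᵥ w = v := by
  rw [← h, mulVec_mulVec, coe_inv_mul, one_mulVec]

/-- Stabiliser of the line through `u`. -/
def lineStab (u : Fin n → F) : Subgroup SL where
  carrier := {g | ∃ c : F, c ≠ 0 ∧ (g : Matrix (Fin n) (Fin n) F) *ᵥ u = c • u}
  one_mem' := ⟨1, one_ne_zero, by simp⟩
  mul_mem' := by
    rintro g h ⟨a, ha0, ha⟩ ⟨b, hb0, hb⟩
    exact ⟨b * a, mul_ne_zero hb0 ha0, by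
      rw [Matrix.SpecialLinearGroup.coe_mul, ← mulVec_mulVec, hb, mulVec_smul, ha, smul_smul]⟩
  inv_mem' := by
    rintro g ⟨a, ha0, ha⟩
    refine ⟨a⁻¹, inv_ne_zero ha0, ?_⟩
    have h := inv_mulVec g ha
    rw [mulVec_smul] at h
    rw [← h, smul_smul, inv_mul_cancel₀ ha0, one_smul, h]

theorem mem_lineStab {u : Fin n → F} (hu : u ≠ 0) {g : SL} {c : F}
    (h : (g : Matrix (Fin n) (Fin n) F) *ᵥ u = c • u) : g ∈ lineStab u := by
  refine ⟨c, ?_, h⟩
  rintro rfl
  have h2 := inv_mulVec g h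
  rw [zero_smul, mulVec_zero] at h2
  exact hu h2.symm

/-- Centraliser of a matrix. -/
def comm (J : Matrix (Fin n) (Fin n) F) : Subgroup SL where
  carrier := {g | Commute (g : Matrix (Fin n) (Fin n) F) J}
  one_mem' := by simp
  mul_mem' := fun {a b} ha hb => by
    show Commute ((a * b : SL) : Matrix (Fin n) (Fin n) F) J
    rw [Matrix.SpecialLinearGroup.coe_mul]
    exact Commute.mul_left ha hb
  inv_mem' := fun {a} ha => Commute.units_inv_left (u := ⟨_, _, coe_mul_inv a, coe_inv_mul a⟩) ha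

theorem center_le_lineStab {u : Fin n → F} (hu : u ≠ 0) :
    Subgroup.center SL ≤ lineStab u := by
  intro g hg
  obtain ⟨r, -, hr⟩ := Matrix.SpecialLinearGroup.mem_center_iff.1 hg
  exact mem_lineStab hu (c := r) (by
    rw [← hr, scalar_apply, ← smul_one_eq_diagonal, smul_mulVec, one_mulVec])

theorem center_le_comm (J : Matrix (Fin n) (Fin n) F) : Subgroup.center SL ≤ comm J := by
  intro g hg
  obtain ⟨r, -, hr⟩ := Matrix.SpecialLinearGroup.mem_center_iff.1 hg
  show Commute (g : Matrix (Fin n) (Fin n) F) J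
  rw [← hr]
  exact Matrix.scalar_commute _ (fun _ => Commute.all _ _) _

/-- A transvection in `SL`. -/
def trans (i j : Fin n) (hij : i ≠ j) (c : F) : SL :=
  ⟨Matrix.transvection i j c, det_transvection_of_ne i j hij c⟩

theorem comm_ne_top {J : Matrix (Fin n) (Fin n) F} {p : F[X]} (hp : Irreducible p)
    (hdeg : 2 ≤ p.natDegree) (hn : 0 < n) (hJ : aeval J p = 0) : comm J ≠ ⊤ := by
  intro e
  have hc : ∀ t : TransvectionStruct (Fin n) F, Commute t.toMatrix J := fun t =>
    (e ▸ Subgroup.mem_top (trans t.i t.j t.hij t.c) : trans t.i t.j t.hij t.c ∈ comm J)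
  obtain ⟨c, hc⟩ := (Matrix.mem_range_scalar_iff_commute_transvectionStruct).2 hc
  haveI : Nonempty (Fin n) := ⟨⟨0, hn⟩⟩
  rw [← hc, show scalar (Fin n) c = algebraMap F (Matrix (Fin n) (Fin n) F) c from rfl,
    aeval_algebraMap_apply, map_eq_zero_iff _ (algebraMap F _).injective] at hJ
  have := degree_eq_one_of_irreducible_of_root hp hJ
  rw [degree_eq_natDegree hp.ne_zero] at this
  norm_cast at this
  omega

theorem exists_eigen {M : Matrix (Fin n) (Fin n) F} {c : F}
    (hc : M.charpoly.IsRoot c) : ∃ v : Fin n → F, v ≠ 0 ∧ M *ᵥ v = c • v := by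
  rw [IsRoot.def, eval_charpoly] at hc
  obtain ⟨v, hv, hv'⟩ := Matrix.exists_mulVec_eq_zero_iff.2 hc
  refine ⟨v, hv, ?_⟩
  rw [sub_mulVec, scalar_apply, ← smul_one_eq_diagonal, smul_mulVec, one_mulVec, sub_eq_zero] at hv'
  exact hv'.symm

theorem commute_aeval {R : Type*} [Ring R] [Algebra F R] {a b : R} (h : Commute a b) (p : F[X]) :
    Commute a (aeval b p) := by
  induction p using Polynomial.induction_on' with
  | add p q hp hq => rw [map_add]; exact hp.add_right hq
  | monomial k c =>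
    rw [aeval_monomial]
    exact Commute.mul_right (Algebra.commute_algebraMap_right c a) (h.pow_right k)

/-- For a matrix without eigenvalue in `F`, a root of `p` commuting with it. -/
theorem exists_root_comm [Fintype F] (M : Matrix (Fin n) (Fin n) F) {p : F[X]} (hp : Irreducible p)
    (hn : (n = 2 ∨ n = 3) ∧ p.natDegree = n ∨ n = 4 ∧ p.natDegree = 2)
    (hM : ∀ v : Fin n → F, v ≠ 0 → ∀ c : F, M *ᵥ v ≠ c • v) :
    ∃ J : Matrix (Fin n) (Fin n) F, aeval J p = 0 ∧ Commute M J := by
  haveI : Nonempty (Fin n) := ⟨⟨0, by omega⟩⟩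
  have hc0 : M.charpoly ≠ 0 := M.charpoly_monic.ne_zero
  have hcdeg : M.charpoly.natDegree = n := by rw [charpoly_natDegree_eq_dim, Fintype.card_fin]
  have hch : aeval M M.charpoly = 0 := M.aeval_self_charpoly
  have hfac : ∀ f : F[X], Irreducible f → f ∣ M.charpoly → 2 ≤ f.natDegree := by
    intro f hf hdvd
    by_contra h
    have h1 : f.natDegree = 1 := by have := hf.natDegree_pos; omega
    obtain ⟨c, hc⟩ := exists_root_of_degree_eq_one
      (by rw [degree_eq_natDegree hf.ne_zero, h1]; rfl)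
    obtain ⟨v, hv, hv'⟩ := exists_eigen (hc.dvd hdvd)
    exact hM v hv c hv'
  suffices h : ∃ r : F[X], aeval (aeval M r) p = 0 by
    obtain ⟨r, hr⟩ := h
    exact ⟨aeval M r, hr, commute_aeval (Commute.refl M) r⟩
  obtain ⟨f, hf, s, hs⟩ := WfDvdMonoid.exists_irreducible_factor
    (mt natDegree_eq_zero_of_isUnit (by omega)) hc0
  have hs0 : s ≠ 0 := fun e => hc0 (by rw [hs, e, mul_zero])
  have hdeg : f.natDegree + s.natDegree = n := by
    rw [← natDegree_mul hf.ne_zero hs0, ← hs, hcdeg]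
  have hf2 := hfac f hf ⟨s, hs⟩
  by_cases hsu : IsUnit s
  · -- the characteristic polynomial is irreducible
    have hirr : Irreducible M.charpoly := by rw [hs]; exact (irreducible_mul_isUnit hsu).2 hf
    obtain ⟨t, ht⟩ := exists_root_mod hp hirr (by
      rcases hn with ⟨-, h⟩ | ⟨h4, h⟩
      · rw [hcdeg, h]
      · rw [hcdeg, h, h4]; norm_num)
    exact ⟨t, by rw [← aeval_comp]; exact aeval_comp_eq_zero ht hch⟩
  · obtain ⟨g, hg, s', hs'⟩ := WfDvdMonoid.exists_irreducible_factor hsu hs0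
    have hg2 := hfac g hg ⟨f * s', by rw [hs, hs']; ring⟩
    have hs'0 : s' ≠ 0 := fun e => hs0 (by rw [hs', e, mul_zero])
    have hsdeg : s.natDegree = g.natDegree + s'.natDegree := by
      rw [hs', natDegree_mul hg.ne_zero hs'0]
    have hn4 : n = 4 ∧ p.natDegree = 2 := by
      rcases hn with ⟨h, hpd⟩ | h
      · omega
      · exact h
    have hf' : f.natDegree = 2 := by omega
    have hg' : g.natDegree = 2 := by omega
    have hs'u : IsUnit s' := isUnit_iff_degree_eq_zero.2 (by
      rw [degree_eq_natDegree hs'0, show s'.natDegree = 0 by omega]; rfl)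
    have hcd : M.charpoly ∣ f * g := by
      rw [hs, hs', ← mul_assoc]
      exact (hs'u.mul_right_dvd).2 dvd_rfl
    by_cases hfg : f ∣ g
    · -- a repeated factor: `M^(q^2)` is a root of `f`
      obtain ⟨t, ht⟩ := exists_root_mod hp hf (by rw [hf', hn4.2])
      refine ⟨t.comp (X ^ Fintype.card F ^ 2), ?_⟩
      rw [aeval_comp, ← aeval_comp (p := p) (q := t)]
      refine aeval_comp_eq_zero ht ?_
      rw [← aeval_comp, comp_X_pow_card]
      have hQ : 2 ≤ Fintype.card F ^ 2 :=
        le_trans Fintype.one_lt_card (Nat.le_self_pow two_ne_zero _)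
      refine aeval_comp_eq_zero (hcd.trans ?_) hch
      exact ((mul_dvd_mul_left f ((hf.associated_of_dvd hg hfg).symm.dvd)).trans
        (dvd_of_eq (sq f).symm)).trans (pow_dvd_pow f hQ)
    · obtain ⟨a, b, hab⟩ := (hf.coprime_iff_not_dvd).2 hfg
      obtain ⟨s1, hs1⟩ := exists_root_mod hp hf (by rw [hf', hn4.2])
      obtain ⟨s2, hs2⟩ := exists_root_mod hp hg (by rw [hg', hn4.2])
      refine ⟨s1 * (b * g) + s2 * (a * f), ?_⟩
      have key : ∀ (d r r' : F[X]), d ∣ r - r' → d ∣ p.comp r' → d ∣ p.comp r := by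
        intro d r r' h h'
        have h1 := Polynomial.sub_dvd_eval_sub r r' (p.map C)
        rw [eval_map, eval_map] at h1
        have h2 := dvd_add (h.trans h1) h'
        rwa [show eval₂ C r' p = p.comp r' from rfl, sub_add_cancel] at h2
      have h1 : f ∣ p.comp (s1 * (b * g) + s2 * (a * f)) := key _ _ s1
        ⟨(s2 - s1) * a, by linear_combination s1 * hab⟩ hs1
      have h2 : g ∣ p.comp (s1 * (b * g) + s2 * (a * f)) := key _ _ s2
        ⟨(s1 - s2) * b, by linear_combination s2 * hab⟩ hs2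
      rw [← aeval_comp]
      exact aeval_comp_eq_zero (hcd.trans (((hf.coprime_iff_not_dvd).2 hfg).mul_dvd h1 h2)) hch

theorem covered [Fintype F] (hn : n = 2 ∨ n = 3 ∨ n = 4) :
    Covered (Matrix.ProjectiveSpecialLinearGroup (Fin n) F) := by
  classical
  haveI : NeZero n := ⟨by omega⟩
  set e0 : Fin n → F := Pi.single 0 1 with he0
  have he : e0 ≠ 0 := by simp [he0]
  have hline : ∀ v : Fin n → F, v ≠ 0 → ∃ (x : SL) (a : F),
      (x : Matrix (Fin n) (Fin n) F) *ᵥ v = a • e0 := by
    intro v hv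
    obtain ⟨E, hE⟩ := Submodule.exists_linearEquiv_restrict_eq
      ((LinearEquiv.toSpanNonzeroSingleton F (Fin n → F) v hv).symm.trans
        (LinearEquiv.toSpanNonzeroSingleton F (Fin n → F) e0 he))
    have hEv : E v = e0 := by
      have h := hE ⟨v, Submodule.mem_span_singleton_self v⟩
      rw [← h]
      simp only [LinearEquiv.trans_apply]
      rw [show (LinearEquiv.toSpanNonzeroSingleton F (Fin n → F) v hv).symm
        ⟨v, Submodule.mem_span_singleton_self v⟩ = 1 from LinearEquiv.coord_self F (Fin n → F) v hv]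
      simp
    set M := LinearMap.toMatrix' E.toLinearMap with hMdef
    have hMv : M *ᵥ v = e0 := by rw [hMdef, LinearMap.toMatrix'_mulVec]; exact hEv
    have hdet : M.det ≠ 0 := by
      rw [hMdef, LinearMap.det_toMatrix']
      exact (LinearEquiv.isUnit_det' E).ne_zero
    let D : Matrix (Fin n) (Fin n) F := diagonal (Function.update 1 0 M.det⁻¹)
    have hD : (D * M).det = 1 := by
      rw [det_mul, det_diagonal, Finset.prod_update_of_mem (Finset.mem_univ _)]
      simp [inv_mul_cancel₀ hdet]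
    refine ⟨⟨D * M, hD⟩, M.det⁻¹, ?_⟩
    show (D * M) *ᵥ v = _
    rw [← mulVec_mulVec, hMv]
    funext j
    simp only [D, e0, mulVec_diagonal, Pi.smul_apply, smul_eq_mul, Pi.single_apply,
      Function.update_apply]
    split_ifs <;> simp
  have hH : lineStab e0 ≠ ⊤ := by
    haveI : Nontrivial (Fin n) := Fin.nontrivial_iff_two_le.2 (by omega)
    obtain ⟨i, hi⟩ := exists_ne (0 : Fin n)
    refine ne_top_of_notMem (g := trans i 0 hi 1) ?_
    rintro ⟨c, -, hc⟩
    have := congrFun hc i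
    simp [trans, e0, Matrix.transvection, add_mulVec, hi] at this
  have hcase : ∀ g : SL, (∀ v : Fin n → F, v ≠ 0 → ∀ c : F,
      (g : Matrix (Fin n) (Fin n) F) *ᵥ v ≠ c • v) ∨
      ∃ x : SL, x * g * x⁻¹ ∈ lineStab e0 := by
    intro g
    by_cases hg : ∀ v : Fin n → F, v ≠ 0 → ∀ c : F, (g : Matrix (Fin n) (Fin n) F) *ᵥ v ≠ c • v
    · exact Or.inl hg
    push Not at hg
    obtain ⟨v, hv, c, hgv⟩ := hg
    obtain ⟨x, a, hx⟩ := hline v hv
    have h2 := inv_mulVec x hx
    rw [mulVec_smul] at h2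
    have ha : a ≠ 0 := by
      rintro rfl
      rw [zero_smul] at h2
      exact hv h2.symm
    have hx' : ((x⁻¹ : SL) : Matrix (Fin n) (Fin n) F) *ᵥ e0 = a⁻¹ • v := by
      rw [← h2, smul_smul, inv_mul_cancel₀ ha, one_smul]
    refine Or.inr ⟨x, mem_lineStab he (c := c) ?_⟩
    rw [Matrix.SpecialLinearGroup.coe_mul, Matrix.SpecialLinearGroup.coe_mul, ← mulVec_mulVec,
      ← mulVec_mulVec, hx', mulVec_smul, hgv, mulVec_smul, mulVec_smul, hx, smul_smul, smul_smul]
    congr 1
    field_simp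
  by_cases hex : ∃ g : SL, ∀ v : Fin n → F, v ≠ 0 → ∀ c : F,
      (g : Matrix (Fin n) (Fin n) F) *ᵥ v ≠ c • v
  · obtain ⟨d, hd, hdn⟩ : ∃ d : ℕ, 2 ≤ d ∧ ((n = 2 ∨ n = 3) ∧ d = n ∨ n = 4 ∧ d = 2) := by
      rcases hn with h | h | h
      · exact ⟨2, by omega, by omega⟩
      · exact ⟨3, by omega, by omega⟩
      · exact ⟨2, by omega, by omega⟩
    obtain ⟨p, hp, hpd⟩ := exists_irreducible_natDegree (F := F) (d := d) (by omega)
    rw [← hpd] at hdn hd
    obtain ⟨g0, hg0⟩ := hex
    obtain ⟨J0, hJ0, -⟩ := exists_root_comm _ hp hdn hg0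
    refine covered_quotient _ (lineStab e0) (comm J0) (center_le_lineStab he) (center_le_comm _) hH
      (comm_ne_top hp hd (by omega) hJ0) fun g => ?_
    rcases hcase g with hg | ⟨x, hx⟩
    · obtain ⟨J, hJ, hcomm⟩ := exists_root_comm _ hp hdn hg
      obtain ⟨P, hP⟩ := exists_conj hp (by omega) hJ hJ0
      refine ⟨P, Or.inr ?_⟩
      show Commute ((P * g * P⁻¹ : SL) : Matrix (Fin n) (Fin n) F) J0
      have hJ0' : J0 = (P : Matrix (Fin n) (Fin n) F) * J *
          ((P⁻¹ : SL) : Matrix (Fin n) (Fin n) F) := by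
        rw [hP, mul_assoc, coe_mul_inv, mul_one]
      rw [Matrix.SpecialLinearGroup.coe_mul, Matrix.SpecialLinearGroup.coe_mul, hJ0']
      show _ * _ = _ * _
      simp only [mul_assoc]
      simp only [← mul_assoc ((P⁻¹ : SL) : Matrix (Fin n) (Fin n) F) (P : Matrix (Fin n) (Fin n) F),
        coe_inv_mul, one_mul]
      rw [← mul_assoc (g : Matrix (Fin n) (Fin n) F) J, hcomm.eq, mul_assoc]
    · exact ⟨x, Or.inl hx⟩
  · refine covered_quotient _ (lineStab e0) (lineStab e0) (center_le_lineStab he)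
      (center_le_lineStab he) hH hH fun g => ?_
    rcases hcase g with hg | ⟨x, hx⟩
    · exact absurd ⟨g, hg⟩ hex
    · exact ⟨x, Or.inl hx⟩

end Cfsg.Agent.Cover98.Linear
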