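import Cfsg.Agent.Cover98.Basic
import Cfsg.Agent.Lib.Forms.Witt
import Cfsg.Agent.Lib.Forms.Symp
import Cfsg.Agent.Lib.Symplectic.Simple

/-!
`PSp_{2m}(F)`, `|F|` even: the two classes of orthogonal groups cover (helper98, S2500).
-/

set_option autoImplicit false

namespace Cfsg.Agent.Cover98.SympEven

open Matrix Cfsg.Agent.Symplectic Cfsg.Agent.Forms

variable {m : ℕ} {F : Type*} [Field F]

local notation "B" => Cfsg.sympForm m F

/-- The standard split quadratic form. -/
def qz (v : Vec m F) : F := ∑ i, v (Sum.inl i) * v (Sum.inr i)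

theorem qz_smul (c : F) (v : Vec m F) : qz (c • v) = c ^ 2 * qz v := by
  simp only [qz, Pi.smul_apply, smul_eq_mul, Finset.mul_sum]
  exact Finset.sum_congr rfl fun i _ => by ring

theorem qz_eI (i : Fin m) : qz (eI i : Vec m F) = 0 := by
  simp [qz, eI]

theorem qz_add [CharP F 2] (u v : Vec m F) : qz (u + v) = qz u + qz v + B u v := by
  have h2 : (2 : F) = 0 := CharTwo.two_eq_zero
  simp only [qz, sympForm_eq_sum, ← Finset.sum_add_distrib, Pi.add_apply]
  exact Finset.sum_congr rfl fun i _ => by
    linear_combination (u (Sum.inl i) * v (Sum.inr i)) * h2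

theorem B_symm [CharP F 2] (u v : Vec m F) : B u v = B v u := by
  rw [sympForm_swap u v, CharTwo.neg_eq]

/-- The form `qz + B(a, ·)²`. -/
def shift (a v : Vec m F) : F := qz v + B a v ^ 2

theorem shift_zero (v : Vec m F) : shift 0 v = qz v := by simp [shift]

theorem shift_add [CharP F 2] (a u v : Vec m F) :
    shift a (u + v) = shift a u + shift a v + B u v := by
  simp only [shift, qz_add, sympForm_add_right, CharTwo.add_sq]
  ring

theorem shift_smul (a : Vec m F) (c : F) (v : Vec m F) : shift a (c • v) = c ^ 2 * shift a v := by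
  simp only [shift, qz_smul, sympForm_smul_right]
  ring

theorem shift_tv [CharP F 2] (a w : Vec m F) (c : F) (v : Vec m F) :
    shift a (tv w c • v) = shift a v + (c + c ^ 2 * shift a w) * B w v ^ 2 := by
  rw [tv_smul, shift_add, shift_smul, sympForm_smul_right, B_symm w v]
  ring

/-- Elements of the symplectic group preserving the form. -/
def iso (a : Vec m F) : Subgroup (Sp m F) where
  carrier := {g | ∀ v, shift a (g • v) = shift a v}
  one_mem' v := by rw [one_smul]
  mul_mem' {g h} hg hh v := by rw [mul_smul, hg, hh]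
  inv_mem' {g} hg v := by
    conv_rhs => rw [← smul_inv_smul g v]
    exact (hg _).symm

theorem mem_iso {a : Vec m F} {g : Sp m F} :
    g ∈ iso a ↔ ∀ v, shift a (g • v) = shift a v := Iff.rfl

theorem negOne_eq_one [CharP F 2] : (negOne : Sp m F) = 1 :=
  eq_of_smul_eq fun v => by
    rw [negOne_smul, one_smul]
    funext i
    simp [CharTwo.neg_eq]

theorem center_le_iso [CharP F 2] (a : Vec m F) : Subgroup.center (Sp m F) ≤ iso a := by
  intro g hg
  rcases mem_center_iff.1 hg with rfl | rfl
  · exact one_mem _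
  · rw [negOne_eq_one]; exact one_mem _

theorem iso_ne_top [CharP F 2] (hm : 2 ≤ m) (a : Vec m F) : iso a ≠ ⊤ := by
  obtain ⟨w, hw0, hw⟩ : ∃ w : Vec m F, w ≠ 0 ∧ shift a w ≠ 1 := by
    set i : Fin m := ⟨0, by omega⟩
    set j : Fin m := ⟨1, by omega⟩
    by_cases hi : shift a (eI i) = 1
    · by_cases hj : shift a (eI j) = 1
      · refine ⟨eI i + eI j, fun h => ?_, ?_⟩
        · have := congrFun h (Sum.inl i)
          simp [eI, i, j] at this
        · rw [shift_add, hi, hj, sympForm_eI_left, CharTwo.add_self_eq_zero]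
          simp [eI]
      · exact ⟨_, eI_ne_zero j, hj⟩
    · exact ⟨_, eI_ne_zero i, hi⟩
  obtain ⟨v, hv⟩ : ∃ v, B w v ≠ 0 := by
    by_contra! h
    exact hw0 (sympForm_left_cancel h)
  refine ne_top_of_notMem (g := tv w 1) fun h => ?_
  have := h v
  rw [shift_tv, add_eq_left, one_pow, one_mul, mul_eq_zero, CharTwo.add_eq_zero] at this
  rcases this with h1 | h1
  · exact hw h1.symm
  · exact hv (pow_eq_zero_iff (two_ne_zero) |>.1 h1)

/-- A linear isometry of the quadratic form, as a group element. -/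
theorem exists_sp_of_isometry [CharP F 2] (e : Vec m F ≃ₗ[F] Vec m F)
    (he : ∀ v, qz (e v) = qz v) : ∃ x : Sp m F, ∀ v : Vec m F, x • v = e v := by
  refine ⟨⟨LinearMap.toMatrix' e.toLinearMap, ?_⟩, fun v => ?_⟩
  · rw [mem_iff_form]
    intro u v
    simp only [LinearMap.toMatrix'_mulVec, LinearEquiv.coe_coe]
    have h := he (u + v)
    rw [map_add, qz_add, qz_add, he, he] at h
    exact add_left_cancel h
  · rw [smul_eq]
    exact LinearMap.toMatrix'_mulVec _ _

/-- Witt: two vectors of one non-zero value are in one orbit. -/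
theorem exists_qmove [CharP F 2] {a b : Vec m F} (ha : qz a ≠ 0) (hab : qz b = qz a) :
    ∃ x : Sp m F, x • a = b ∧ ∀ v : Vec m F, qz (x • v) = qz v := by
  have hnd : (sympBilin m F).Nondegenerate := sympBilin_nondegenerate (m := m) (F := F)
  let Q : QuadraticForm F (Vec m F) := QuadraticMap.ofPolar qz
    (fun c v => by rw [qz_smul, smul_eq_mul, pow_two])
    (fun u u' v => by
      simp only [QuadraticMap.polar, qz_add, sympForm_add_left]
      ring)
    (fun c u v => by
      simp only [QuadraticMap.polar, qz_add, sympForm_smul_left, smul_eq_mul]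
      ring)
  have hpol : QuadraticMap.polarBilin Q = sympBilin m F := by
    ext u v
    simp only [LinearMap.coe_comp, Function.comp_apply, QuadraticMap.polarBilin_apply_apply,
      sympBilin_apply]
    show qz (_ + _) - qz _ - qz _ = _
    rw [qz_add]
    ring
  have ha0 : a ≠ 0 := fun h => ha (by simp [h, qz])
  obtain ⟨u, -, hu⟩ := exists_apply_eq_of_notMem (sympBilin m F) hnd.2 ⊥
    (show a ∉ (⊥ : Submodule F (Vec m F)) by simpa using ha0)
  obtain ⟨e, he, hea⟩ := witt_quadratic' Q (hpol ▸ hnd) (F ∙ a)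
    ((sympBilin m F u).smulRight b)
    (fun v hv h => by
      obtain ⟨c, rfl⟩ := Submodule.mem_span_singleton.1 hv
      have hb : b ≠ 0 := fun hb => ha (by rw [← hab, hb]; simp [qz])
      simp only [LinearMap.smulRight_apply, map_smul, hu, smul_eq_mul, mul_one, smul_eq_zero,
        hb, or_false] at h
      rcases h with h | h
      · rw [h, zero_smul]
      · exact absurd h one_ne_zero)
    (fun v hv => by
      obtain ⟨c, rfl⟩ := Submodule.mem_span_singleton.1 hv
      show qz _ = qz _
      simp [LinearMap.smulRight_apply, hu, qz_smul, hab])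
  obtain ⟨x, hx⟩ := exists_sp_of_isometry e he
  refine ⟨x, ?_, fun v => by rw [hx]; exact he v⟩
  rw [hx, hea a (Submodule.mem_span_singleton_self a)]
  simp [hu]

theorem conj_mem {a b : Vec m F} {x g : Sp m F} (hx : ∀ v, shift a (x • v) = shift b v)
    (hg : g ∈ iso a) : x⁻¹ * g * x ∈ iso b := fun v => by
  rw [← hx, mul_smul, mul_smul, smul_inv_smul, hg, hx]

/-- Every symplectic element preserves one of the forms. -/
theorem exists_mem_iso [Finite F] [CharP F 2] (g : Sp m F) : ∃ a, g ∈ iso a := by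
  haveI := Fintype.ofFinite F
  have hsq : ∀ a : F, ∃ r : F, r ^ 2 = a := fun a => by
    obtain ⟨r, hr⟩ := FiniteField.isSquare_of_char_two (ringChar.eq F 2) a
    exact ⟨r, by rw [hr, pow_two]⟩
  have hinj : ∀ a b : F, a ^ 2 = b ^ 2 → a = b := fun a b h => by
    rwa [← CharTwo.add_eq_zero, ← CharTwo.add_sq, pow_eq_zero_iff two_ne_zero,
      CharTwo.add_eq_zero] at h
  choose r hr using fun v : Vec m F => hsq (qz (g • v) + qz v)
  let l : Module.Dual F (Vec m F) :=
    { toFun := r
      map_add' := fun u v => hinj _ _ (by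
        rw [CharTwo.add_sq, hr, hr, hr, smul_add, qz_add, qz_add, sympForm_smul_smul]
        have h2 : (2 : F) = 0 := CharTwo.two_eq_zero
        linear_combination B u v * h2)
      map_smul' := fun c v => hinj _ _ (by
        rw [RingHom.id_apply, smul_eq_mul, mul_pow, hr, hr, smul_comm g c, qz_smul, qz_smul]
        ring) }
  have hnd : (sympBilin m F).Nondegenerate := sympBilin_nondegenerate (m := m) (F := F)
  set c := ((sympBilin m F).toDual hnd).symm l with hc
  have hcl : ∀ v, B c v = r v := fun v => by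
    rw [← sympBilin_apply]
    exact LinearMap.BilinForm.apply_toDual_symm_apply (hB := hnd) l v
  let T : Vec m F →ₗ[F] Vec m F :=
    ((g⁻¹ : Sp m F) : Matrix (Fin m ⊕ Fin m) (Fin m ⊕ Fin m) F).mulVecLin + LinearMap.id
  have hT : ∀ a v : Vec m F, B (T a) v = B a (g • v + v) := fun a v => by
    show B (g⁻¹ • a + a) v = _
    rw [sympForm_add_left, sympForm_add_right, ← sympForm_smul_smul g (g⁻¹ • a), smul_inv_smul]
  have hrefl : (sympBilin m F).IsRefl := LinearMap.IsAlt.isRefl sympBilin_isAlt
  have hmem : c ∈ (sympBilin m F).orthogonal ((sympBilin m F).orthogonal (LinearMap.range T)) := by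
    rw [LinearMap.BilinForm.mem_orthogonal_iff]
    intro v hv
    rw [LinearMap.BilinForm.mem_orthogonal_iff] at hv
    have hfix : g • v + v = 0 := by
      refine sympForm_left_cancel fun a => ?_
      rw [B_symm, ← hT, ← sympBilin_apply]
      exact hv _ (LinearMap.mem_range_self T a)
    show sympBilin m F v c = 0
    rw [sympBilin_apply, B_symm, hcl]
    refine hinj _ _ ?_
    have hgv : g • v = v := by
      rw [eq_neg_of_add_eq_zero_left hfix]
      funext i
      simp [CharTwo.neg_eq]
    rw [hr, hgv, CharTwo.add_self_eq_zero, zero_pow two_ne_zero]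
  rw [LinearMap.BilinForm.orthogonal_orthogonal hnd hrefl] at hmem
  obtain ⟨a, ha⟩ := hmem
  refine ⟨a, fun v => ?_⟩
  have h1 := hr v
  rw [← hcl, ← ha, hT, sympForm_add_right, CharTwo.add_sq] at h1
  simp only [shift]
  have h2 : (2 : F) = 0 := CharTwo.two_eq_zero
  linear_combination -h1 + (B a (g • v) ^ 2 - qz v) * h2

theorem covered [Fintype F] (hm : 2 ≤ m) (hF : ¬ Odd (Fintype.card F)) :
    Covered (Cfsg.PSp m F) := by
  have hchar : ringChar F = 2 := FiniteField.even_card_iff_char_two.2 (by
    rw [Nat.not_odd_iff] at hF; omega)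
  haveI : CharP F 2 := ringChar.of_eq hchar
  obtain ⟨δ, hδ⟩ : ∃ δ : F, ∀ μ : F, μ ^ 2 + μ ≠ δ := by
    by_contra! h
    have hi := Finite.injective_iff_surjective.2 (show Function.Surjective fun μ : F => μ ^ 2 + μ from h)
    exact one_ne_zero (hi (show (1 : F) ^ 2 + 1 = 0 ^ 2 + 0 by simp [CharTwo.add_self_eq_zero]))
  have hδ0 : δ ≠ 0 := fun h => hδ 0 (by simp [h])
  set i : Fin m := ⟨0, by omega⟩
  set a₀ : Vec m F := eI i + δ • fI i with ha₀
  have hq0 : qz a₀ = δ := by
    simp [ha₀, qz, eI, fI, Pi.single_apply]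
  have hAS : ∀ b : F, (∀ μ : F, μ ^ 2 + μ ≠ b) → ∃ μ : F, μ ^ 2 + μ = b + δ := by
    intro b hb
    let f : F →+ F := AddMonoidHom.mk' (fun μ => μ ^ 2 + μ) fun x y => by
      rw [CharTwo.add_sq]; ring
    have hk : Nat.card f.ker = 2 := by
      have : (f.ker : Set F) = {0, 1} := by
        ext x
        simp only [SetLike.mem_coe, AddMonoidHom.mem_ker, Set.mem_insert_iff,
          Set.mem_singleton_iff]
        show x ^ 2 + x = 0 ↔ _
        rw [show x ^ 2 + x = x * (x + 1) by ring, mul_eq_zero, CharTwo.add_eq_zero]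
      rw [← SetLike.coe_sort_coe, this, Nat.card_coe_set_eq, Set.ncard_pair zero_ne_one]
    have hidx : f.range.index = 2 := by
      have h1 := f.range.card_mul_index
      have h2 := f.ker.card_mul_index
      rw [AddSubgroup.index_ker, hk] at h2
      rw [← h2, mul_comm 2] at h1
      exact Nat.eq_of_mul_eq_mul_left Nat.card_pos h1
    have hmem : b + δ ∈ f.range := by
      rw [AddSubgroup.add_mem_iff_of_index_two hidx]
      constructor
      · intro h; exact absurd h fun ⟨μ, hμ⟩ => hb μ hμ
      · intro h; exact absurd h fun ⟨μ, hμ⟩ => hδ μ hμ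
    exact hmem
  refine covered_quotient _ (iso 0) (iso a₀) (center_le_iso _) (center_le_iso _)
    (iso_ne_top hm _) (iso_ne_top hm _) fun g => ?_
  obtain ⟨a, ha⟩ := exists_mem_iso g
  by_cases hA : ∃ μ : F, μ ^ 2 + μ = qz a
  · obtain ⟨μ, hμ⟩ := hA
    obtain ⟨c, hc⟩ : ∃ c : F, c + c ^ 2 * qz a = 1 := by
      by_cases h0 : qz a = 0
      · exact ⟨1, by simp [h0]⟩
      · exact ⟨μ / qz a, by field_simp; linear_combination hμ⟩
    have key : ∀ v, shift a v = shift 0 (tv a c • v) := fun v => by
      rw [shift_tv, shift_zero, shift_zero, hc, one_mul]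
      rfl
    refine ⟨((tv a c)⁻¹)⁻¹, Or.inl ?_⟩
    rw [inv_inv]
    have := conj_mem (x := (tv a c)⁻¹) (b := 0) (fun v => by rw [key, smul_inv_smul]) ha
    rwa [inv_inv] at this
  · push Not at hA
    obtain ⟨μ, hμ⟩ := hAS _ hA
    obtain ⟨r, hr⟩ := FiniteField.isSquare_of_char_two hchar (qz a)
    obtain ⟨s, hs⟩ := FiniteField.isSquare_of_char_two hchar (μ ^ 2 + μ)
    have hr0 : r ≠ 0 := fun h => hA 0 (by simp [hr, h])
    have hw : qz (r⁻¹ • a) = 1 := by
      rw [qz_smul, hr]; field_simp
    set a' := (1 + s / r) • a with ha'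
    have hq' : qz a' = δ := by
      have e : (1 + s / r) ^ 2 * (r * r) = r * r + s * s := by
        field_simp
        rw [CharTwo.add_sq]
      rw [ha', qz_smul, hr, e, ← hr, ← hs, hμ, ← add_assoc, CharTwo.add_self_eq_zero, zero_add]
    have key : ∀ v, shift a (tv (r⁻¹ • a) μ • v) = shift a' v := fun v => by
      rw [shift_tv]
      simp only [shift, ha', sympForm_smul_right, sympForm_smul_left, sympForm_self, mul_zero, hw]
      simp only [mul_pow, CharTwo.add_sq, one_pow, ne_eq, OfNat.ofNat_ne_zero, not_false_eq_true,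
        zero_pow, add_zero, mul_one, div_pow, inv_pow]
      field_simp
      linear_combination (B a v ^ 2) * hs
    obtain ⟨x, hxa, hxq⟩ := exists_qmove (a := a₀) (b := a') (by rw [hq0]; exact hδ0)
      (by rw [hq0, hq'])
    have key2 : ∀ v, shift a ((tv (r⁻¹ • a) μ * x) • v) = shift a₀ v := fun v => by
      rw [mul_smul, key, shift, shift, hxq, ← hxa, sympForm_smul_smul]
    refine ⟨(tv (r⁻¹ • a) μ * x)⁻¹, Or.inr ?_⟩
    have := conj_mem key2 ha
    rwa [inv_inv]

end Cfsg.Agent.Cover98.SympEven
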