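import Cfsg.Agent.Cover98.Sp3.Regular

/-!
`PSp₆(3^a)`: the stabiliser of a plane and the group `Sp₂(q³).3` cover (helper98, S2500).
-/

set_option autoImplicit false

namespace Cfsg.Agent.Cover98.SympThree

open Polynomial Module Cfsg.Agent.Symplectic Cfsg.Agent.Forms Cfsg.Agent.Cover98.Sp3

variable {F : Type*} [Field F]

local notation "V" => Vec 3 F
local notation "G" => Sp 3 F
local notation "B" => sympBilin 3 F

/-- `g + g⁻¹`. -/
noncomputable def sym (g : G) : Module.End F V := op g + op g⁻¹

theorem sym_apply (g : G) (x : V) : sym g x = g • x + g⁻¹ • x := rfl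

theorem sym_sa (g : G) : SA (sym g) := fun x y => by
  rw [sym_apply, sym_apply, map_add, map_add, LinearMap.add_apply, B_smul_left, B_smul_left,
    inv_inv, add_comm]

theorem sym_smul (g : G) (x : V) : sym g (g • x) = g • sym g x := by
  rw [sym_apply, sym_apply, smul_add, inv_smul_smul, smul_inv_smul]

theorem aeval_sym_smul (g : G) (f : F[X]) (x : V) :
    aeval (sym g) f (g • x) = g • aeval (sym g) f x := by
  have hc : Commute (op g) (aeval (sym g) f) := by
    refine Algebra.commute_of_mem_adjoin_singleton_of_commute (R := F) ?_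
      (show Commute (op g) (sym g) from ?_)
    · exact aeval_mem_adjoin_singleton F (sym g)
    · exact LinearMap.ext fun v => (sym_smul g v).symm
  exact (LinearMap.congr_fun hc.eq x).symm

variable [CharP F 3]

theorem twisted_of_cubic_factor [Finite F] {b : F} (hb : ∀ x : F, x ^ 3 - x + b ≠ 0) {g : G}
    {f : F[X]} (hf : Irreducible f) (hd : f.natDegree = 3) (h0 : aeval (sym g) f = 0) :
    Twisted b g := by
  obtain ⟨s, hs⟩ := exists_root_mod (cubic_irreducible hb) hf (by rw [cubic_degree, hd])
  refine ⟨aeval (sym g) s, (sym_sa g).aeval s, fun x => ?_, 0, by simp, fun x => ?_⟩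
  · rw [← aeval_cubic b (aeval (sym g) s) x, ← aeval_comp, aeval_comp_eq_zero hs h0,
      LinearMap.zero_apply]
  · rw [aeval_sym_smul, zero_smul, add_zero]

theorem planar_of_coprime {g : G} {a b : F[X]} (hco : IsCoprime a b)
    (hab : aeval (sym g) (a * b) = 0) (ha : aeval (sym g) a ≠ 0) (hb : aeval (sym g) b ≠ 0) :
    Planar g := by
  refine planar_of_sub (U := LinearMap.ker (aeval (sym g) a)) (fun x hx => ?_)
    (fun z hz h => ?_) (fun h => hb ?_) (fun h => ha (LinearMap.ker_eq_top.1 h))
  · show aeval (sym g) a (g • x) = 0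
    rw [aeval_sym_smul, show aeval (sym g) a x = 0 from hx, smul_zero]
  · obtain ⟨u, w, huw⟩ := hco
    refine eq_zero_of_B fun y => ?_
    have hy : aeval (sym g) (u * a) y + aeval (sym g) (w * b) y = y := by
      rw [← LinearMap.add_apply, ← map_add, huw, map_one]; rfl
    rw [← hy, map_add, h (aeval (sym g) (w * b) y) (by
      show aeval (sym g) a _ = 0
      rw [← Module.End.mul_apply, ← map_mul, show a * (w * b) = w * (a * b) by ring, map_mul, hab,
        mul_zero, LinearMap.zero_apply]), add_zero, ← (sym_sa g).aeval, map_mul,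
      Module.End.mul_apply, show aeval (sym g) a z = 0 from hz, map_zero, map_zero,
      LinearMap.zero_apply]
  · refine LinearMap.ext fun x => ?_
    have : aeval (sym g) b x ∈ LinearMap.ker (aeval (sym g) a) := by
      show aeval (sym g) a _ = 0
      rw [← Module.End.mul_apply, ← map_mul, hab, LinearMap.zero_apply]
    rw [h, Submodule.mem_bot] at this
    rw [this, LinearMap.zero_apply]

/-- Evaluation on polynomials of small degree. -/
noncomputable def evalLow (T : Module.End F V) (x : V) (n : ℕ) : Polynomial.degreeLT F n →ₗ[F] V where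
  toFun r := aeval T (r : F[X]) x
  map_add' r s := by rw [Submodule.coe_add, map_add, LinearMap.add_apply]
  map_smul' a r := by rw [Submodule.coe_smul, map_smul, LinearMap.smul_apply]; rfl

omit [CharP F 3] in
theorem evalLow_apply (T : Module.End F V) (x : V) (n : ℕ) (r : Polynomial.degreeLT F n) :
    evalLow T x n r = aeval T (r : F[X]) x := rfl

theorem evalLow_isotropic {T : Module.End F V} (hT : SA T) (x : V) (n : ℕ) :
    ∀ u ∈ LinearMap.range (evalLow T x n), ∀ w ∈ LinearMap.range (evalLow T x n), B u w = 0 := by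
  rintro _ ⟨r, rfl⟩ _ ⟨r', rfl⟩
  have h : B (aeval T ((r : F[X]) * (r' : F[X])) x) x = 0 := (hT.aeval _).alt x
  rw [evalLow_apply, evalLow_apply, hT.aeval (r : F[X]) x (aeval T (r' : F[X]) x),
    ← Module.End.mul_apply, ← map_mul, B_swap, h, neg_zero]

omit [CharP F 3] in
theorem evalLow_injective {T : Module.End F V} {f : F[X]} (hf : Irreducible f) {k : ℕ}
    (h0 : aeval T (f ^ (k + 1)) = 0) {x : V} (hx : aeval T (f ^ k) x ≠ 0) :
    Function.Injective (evalLow T x (f.natDegree * (k + 1))) := by
  rw [injective_iff_map_eq_zero]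
  intro r hr0
  rw [evalLow_apply] at hr0
  by_contra hne'
  have hr0' : (r : F[X]) ≠ 0 := fun h => hne' (Subtype.ext h)
  obtain ⟨j, r', hndvd, hr⟩ := WfDvdMonoid.max_power_factor hr0' hf
  have hdeg : (r : F[X]).natDegree < f.natDegree * (k + 1) :=
    (natDegree_lt_iff_degree_lt hr0').2 (mem_degreeLT.1 r.2)
  have hr'0 : r' ≠ 0 := fun h => hr0' (by rw [hr, h, mul_zero])
  rw [hr, natDegree_mul (pow_ne_zero _ hf.ne_zero) hr'0, natDegree_pow] at hdeg
  have hjk : j ≤ k := by
    by_contra! hlt
    have := Nat.mul_le_mul_right f.natDegree (show k + 1 ≤ j from hlt)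
    rw [mul_comm (k + 1)] at this
    omega
  obtain ⟨u, w, huw⟩ := ((hf.coprime_iff_not_dvd).2 hndvd).pow_left (m := k + 1)
  have e : f ^ j = (u * f ^ j) * f ^ (k + 1) + w * (r : F[X]) := by
    rw [hr]
    linear_combination -(f ^ j) * huw
  have hfj : aeval T (f ^ j) x = 0 := by
    rw [e, map_add, LinearMap.add_apply, map_mul _ _ (f ^ (k + 1)), map_mul _ w,
      Module.End.mul_apply, Module.End.mul_apply, h0, hr0, LinearMap.zero_apply, map_zero,
      map_zero, add_zero]
  refine hx ?_
  rw [← Nat.sub_add_cancel hjk, pow_add, map_mul, Module.End.mul_apply, hfj, map_zero]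

theorem degree_le_three {g : G} {f : F[X]} (hf : Irreducible f) {k : ℕ}
    (h0 : aeval (sym g) (f ^ (k + 1)) = 0) (hne : aeval (sym g) (f ^ k) ≠ 0) :
    f.natDegree * (k + 1) ≤ 3 := by
  obtain ⟨x, hx⟩ : ∃ x, aeval (sym g) (f ^ k) x ≠ 0 := by
    by_contra! h
    exact hne (LinearMap.ext h)
  have h1 := finrank_le_three (evalLow_isotropic (sym_sa g) x (f.natDegree * (k + 1)))
  rwa [LinearMap.finrank_range_of_inj (evalLow_injective hf h0 hx),
    LinearEquiv.finrank_eq (Polynomial.degreeLTEquiv F _), Module.finrank_fin_fun] at h1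

theorem not_quadratic {T : Module.End F V} (hT : SA T) {f : F[X]} (hm : f.Monic)
    (hf : Irreducible f) (hd : f.natDegree = 2) (h0 : aeval T f = 0) : False := by
  have hroot : ∀ r : F, f.eval r ≠ 0 := fun r h => by
    have := degree_eq_one_of_irreducible_of_root hf h
    rw [degree_eq_natDegree hf.ne_zero, hd] at this
    norm_cast at this
  set a1 := f.coeff 1
  set a0 := f.coeff 0
  have hform : f = X ^ 2 + C a1 * X + C a0 := by
    conv_lhs => rw [eq_quadratic_of_degree_le_two (natDegree_le_iff_degree_le.1 hd.le)]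
    rw [show f.coeff 2 = 1 from hd ▸ hm.coeff_natDegree, map_one, one_mul]
  have hTT : ∀ v, T (T v) = -(a1 • T v) - a0 • v := fun v => by
    have := LinearMap.congr_fun h0 v
    rw [hform] at this
    simp [sq, Module.End.mul_apply, Module.algebraMap_end_apply] at this
    rw [← sub_eq_zero]
    linear_combination (norm := module) this
  set x : V := eI 0
  obtain ⟨y, he⟩ : ∃ y, B x y ≠ 0 := by
    by_contra! h
    exact eI_ne_zero (0 : Fin 3) (eq_zero_of_B h)
  set e := B x y
  set c := B (T x) y with hc
  have hdet : c ^ 2 + a1 * c * e + a0 * e ^ 2 ≠ 0 := by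
    intro h
    refine hroot (c / e) ?_
    rw [hform]
    simp
    field_simp
    linear_combination h
  let ι : (Fin 4 → F) →ₗ[F] V :=
    (LinearMap.proj 0).smulRight x + (LinearMap.proj 1).smulRight (T x) +
      (LinearMap.proj 2).smulRight y + (LinearMap.proj 3).smulRight (T y)
  have hι : ∀ a : Fin 4 → F, ι a = a 0 • x + a 1 • T x + a 2 • y + a 3 • T y := fun a => rfl
  have hTx : B (T x) x = 0 := hT.alt x
  have hTy : B (T y) y = 0 := hT.alt y
  have hxT : B x (T x) = 0 := by rw [← hT, hTx]
  have hyT : B y (T y) = 0 := by rw [← hT, hTy]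
  have hxTy : B x (T y) = c := by rw [← hT]
  have hTxTy : B (T x) (T y) = -a1 * c - a0 * e := by
    rw [← hT, hTT, map_sub, map_neg, map_smul, map_smul]
    simp only [LinearMap.sub_apply, LinearMap.neg_apply, LinearMap.smul_apply, smul_eq_mul]
    ring
  have hyx : B y x = -e := B_swap y x
  have hyTx : B y (T x) = -c := B_swap y (T x)
  have hTyx : B (T y) x = -c := by rw [hT, hyTx]
  have hTyTx : B (T y) (T x) = -(-a1 * c - a0 * e) := by rw [B_swap, hTxTy]
  have key : ∀ a : Fin 4 → F, (∀ d : Fin 4 → F, B (ι a) (ι d) = 0) → a = 0 := by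
    intro a h
    have e0 := h ![1, 0, 0, 0]; have e1 := h ![0, 1, 0, 0]
    have e2 := h ![0, 0, 1, 0]; have e3 := h ![0, 0, 0, 1]
    simp only [hι, Matrix.cons_val_zero, Matrix.cons_val_one, Matrix.cons_val, one_smul, zero_smul,
      add_zero, zero_add, map_add, map_smul, LinearMap.add_apply, LinearMap.smul_apply, smul_eq_mul,
      B_self, hTx, hTy, hxT, hyT, hxTy, hTxTy, hyx, hyTx, hTyx, hTyTx, mul_zero] at e0 e1 e2 e3
    funext i
    refine (mul_eq_zero.1 (?_ : a i * (c ^ 2 + a1 * c * e + a0 * e ^ 2) = 0)).resolve_right hdet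
    fin_cases i <;> simp only [Fin.isValue, Fin.zero_eta, Fin.mk_one, Fin.reduceFinMk]
    · linear_combination (a1 * c + a0 * e) * e2 + c * e3
    · linear_combination c * e2 - e * e3
    · linear_combination -(a1 * c + a0 * e) * e0 - c * e1
    · linear_combination -c * e0 + e * e1
  have hinj : Function.Injective ι := by
    rw [injective_iff_map_eq_zero]
    exact fun a ha => key a fun d => by rw [ha, map_zero, LinearMap.zero_apply]
  set U := LinearMap.range ι with hU
  have hUdim : finrank F U = 4 := by
    rw [hU, LinearMap.finrank_range_of_inj hinj, Module.finrank_fin_fun]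
  have hdis : Disjoint U ((B).orthogonal U) := Submodule.disjoint_def.2 fun z hz hzo => by
    obtain ⟨a, rfl⟩ := hz
    rw [key a fun d => by rw [B_swap, show B (ι d) (ι a) = 0 from hzo _ ⟨d, rfl⟩, neg_zero],
      map_zero]
  have hOdim : finrank F ((B).orthogonal U) = 2 := by
    rw [LinearMap.BilinForm.finrank_orthogonal sympBilin_nondegenerate, finrank_V, hUdim]
  have htop : U ⊔ (B).orthogonal U = ⊤ :=
    Submodule.eq_top_of_disjoint _ _ (by rw [hUdim, hOdim, finrank_V]) hdis
  obtain ⟨z, hz, hz0⟩ := ((B).orthogonal U).exists_mem_ne_zero_of_ne_bot (fun h => by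
    rw [h, finrank_bot] at hOdim; omega)
  have hTz : T z ∈ (B).orthogonal U := by
    rintro _ ⟨d, rfl⟩
    show B (ι d) (T z) = 0
    rw [← hT]
    refine hz _ ⟨![-(a0 * d 1), d 0 - a1 * d 1, -(a0 * d 3), d 2 - a1 * d 3], ?_⟩
    simp only [hι, map_add, map_smul, hTT, Matrix.cons_val_zero, Matrix.cons_val_one, Matrix.cons_val]
    module
  have hli : LinearIndependent F ![z, T z] := by
    rw [LinearIndependent.pair_iff]
    intro s t h
    have ht : t = 0 := by
      by_contra ht
      refine hroot (-(t⁻¹ * s)) ?_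
      have hev : T z = (-(t⁻¹ * s)) • z := by
        calc T z = t⁻¹ • (s • z + t • T z) - (t⁻¹ * s) • z := by
              rw [smul_add, smul_smul, inv_smul_smul₀ ht]; abel
          _ = _ := by rw [h, smul_zero, zero_sub, neg_smul]
      have := Module.End.aeval_apply_of_hasEigenvector (p := f)
        (show Module.End.HasEigenvector T (-(t⁻¹ * s)) z from
          ⟨Module.End.mem_eigenspace_iff.2 hev, hz0⟩)
      rw [h0, LinearMap.zero_apply, eq_comm, smul_eq_zero] at this
      exact this.resolve_right hz0
    subst ht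
    rw [zero_smul, add_zero, smul_eq_zero] at h
    exact ⟨h.resolve_right hz0, rfl⟩
  have hspan : Submodule.span F {z, T z} = (B).orthogonal U := by
    refine Submodule.eq_of_le_of_finrank_eq (Submodule.span_le.2 ?_) ?_
    · simp [Set.insert_subset_iff, hz, hTz]
    · rw [← Matrix.range_cons_cons_empty z (T z) (![] : Fin 0 → V), finrank_span_eq_card hli, hOdim]
      rfl
  refine hz0 (eq_zero_of_B fun w => ?_)
  obtain ⟨u, hu, o, ho, rfl⟩ := Submodule.mem_sup.1 (htop ▸ Submodule.mem_top : w ∈ U ⊔ _)
  rw [← hspan] at ho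
  obtain ⟨p, r, rfl⟩ := Submodule.mem_span_pair.1 ho
  rw [map_add, B_swap z u, show B u z = 0 from hz u hu, map_add, map_smul, map_smul, B_self,
    ← hT, hT.alt]
  simp

theorem finrank_range_op_mul (g : G) (f : Module.End F V) :
    finrank F (LinearMap.range (op g * f)) = finrank F (LinearMap.range f) := by
  rw [Module.End.mul_eq_comp, LinearMap.range_comp]
  exact (LinearEquiv.finrank_eq (Submodule.equivMapOfInjective (op g)
    (fun a c e => MulAction.injective g e) _)).symm

/-- Nilpotence passes to a radical polynomial. -/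
theorem aeval_eq_zero_of_squarefree {A : Type*} [Ring A] [Algebra F A] {P r : F[X]}
    (hP : Squarefree P) {a : A} (ha : aeval a P = 0) {N : ℕ} (hr : (aeval a r) ^ N = 0) :
    aeval a r = 0 := by
  classical
  set d := EuclideanDomain.gcd P (r ^ N) with hd
  have hd0 : aeval a d = 0 := by
    rw [hd, EuclideanDomain.gcd_eq_gcd_ab, map_add, map_mul, map_mul, ha, map_pow, hr, zero_mul,
      zero_mul, add_zero]
  have hsq : Squarefree d := hP.squarefree_of_dvd (EuclideanDomain.gcd_dvd_left _ _)
  exact aeval_comp_eq_zero (hsq.isRadical N r (EuclideanDomain.gcd_dvd_right _ _)) hd0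

theorem twisted_or_planar_ne [Finite F] (b : F) {g : G} {t : F} (ht : t ^ 2 ≠ 4)
    (h3 : (sym g - algebraMap F _ t) ^ 3 = 0) : Good b g := by
  haveI : Fact (Nat.Prime 3) := ⟨Nat.prime_three⟩
  have h3' := three_eq_zero (F := F)
  set S := sym g - algebraMap F _ t with hSdef
  have hSa : ∀ x : V, S x = g • x + g⁻¹ • x - t • x := fun x => by
    rw [hSdef, LinearMap.sub_apply, Module.algebraMap_end_apply, sym_apply]
  have hSsa : SA S := fun x y => by
    rw [hSdef]
    simp only [LinearMap.sub_apply, Module.algebraMap_end_apply, map_sub, map_smul,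
      LinearMap.smul_apply, sym_sa g x y]
  have hSg : ∀ x : V, S (g • x) = g • S x := fun x => by
    rw [hSa, hSa, smul_sub, smul_add, inv_smul_smul, smul_inv_smul, smul_comm g t]
  have hgg : ∀ x : V, g • S x = g • g • x + x - t • g • x := fun x => by
    rw [hSa, smul_sub, smul_add, smul_inv_smul, smul_comm g t]
  set W := LinearMap.ker S with hW
  by_cases hv : ∃ v ∈ W, B v (g • v) ≠ 0
  · obtain ⟨v, hvW, hv⟩ := hv
    refine Or.inl ⟨v, g • v, hv, Submodule.subset_span (by simp), ?_⟩
    refine Submodule.mem_span_pair.2 ⟨-1, t, ?_⟩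
    have := hgg v
    rw [show S v = 0 from hvW, smul_zero] at this
    generalize g • g • v = a at this ⊢
    generalize g • v = c at this ⊢
    linear_combination (norm := module) this
  push Not at hv
  have hgW : ∀ w ∈ W, g • w ∈ W := fun w hw => by
    show S (g • w) = 0
    rw [hSg, show S w = 0 from hw, smul_zero]
  have hgW' : ∀ w ∈ W, g⁻¹ • w ∈ W := fun w hw => by
    show S (g⁻¹ • w) = 0
    have := hSg (g⁻¹ • w)
    rw [smul_inv_smul, show S w = 0 from hw] at this
    exact MulAction.injective g (show g • S (g⁻¹ • w) = g • (0 : V) by rw [← this, smul_zero])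
  have hti : ∀ x ∈ W, ∀ y ∈ W, B x y = 0 := by
    have hd : ∀ x ∈ W, ∀ y ∈ W, B x (g • y - g⁻¹ • y) = 0 := fun x hx y hy => by
      have := hv (x + y) (W.add_mem hx hy)
      rw [smul_add, map_add, map_add, LinearMap.add_apply, LinearMap.add_apply, hv x hx, hv y hy,
        B_swap y (g • x), B_smul_left] at this
      rw [map_sub]
      linear_combination this
    intro x hx y hy
    set z := g • y - g⁻¹ • y with hz
    have hzW : z ∈ W := W.sub_mem (hgW y hy) (hgW' y hy)
    have e : g • z - g⁻¹ • z = (t ^ 2 - 4) • y := by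
      have hy0 : g • y + g⁻¹ • y = t • y := by rw [← sub_eq_zero, ← hSa]; exact hy
      have h1 : g • g • y + y = t • g • y := by
        have := congrArg (g • ·) hy0
        simpa [smul_comm g t] using this
      have h2 : y + g⁻¹ • g⁻¹ • y = t • g⁻¹ • y := by
        have := congrArg (g⁻¹ • ·) hy0
        simpa [smul_comm g⁻¹ t] using this
      rw [hz, smul_sub, smul_sub, inv_smul_smul, smul_inv_smul]
      generalize g • g • y = a at h1 ⊢
      generalize g⁻¹ • g⁻¹ • y = a' at h2 ⊢
      generalize g • y = c at h1 hy0 ⊢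
      generalize g⁻¹ • y = c' at h2 hy0 ⊢
      linear_combination (norm := module) h1 + h2 + t • hy0
    have := hd x hx z hzW
    rw [e, map_smul, smul_eq_mul] at this
    exact (mul_eq_zero.1 this).resolve_left (sub_ne_zero.2 ht)
  have hk := S.finrank_range_add_finrank_ker
  rw [finrank_V] at hk
  have hW3 : finrank F W ≤ 3 := finrank_le_three hti
  obtain ⟨r1, hr1⟩ := hSsa.even_rank
  have hW0 : 0 < finrank F W := by
    by_contra! h
    have hinj : Function.Injective S := LinearMap.ker_eq_bot.1 (Submodule.finrank_eq_zero.1 (Nat.le_zero.1 h))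
    have hz : ∀ x, S (S (S x)) = 0 := fun x => LinearMap.congr_fun h3 x
    exact eI_ne_zero (F := F) (0 : Fin 3)
      (hinj (hinj (hinj (by rw [hz, map_zero, map_zero, map_zero]))))
  rw [← hW] at hk
  have hr : finrank F (LinearMap.range (S * S)) = 2 := by
    have hle : LinearMap.range (S * S) ≤ LinearMap.range S ⊓ W := by
      rintro _ ⟨x, rfl⟩
      exact ⟨⟨S x, rfl⟩, LinearMap.congr_fun h3 x⟩
    have h1 := rank_mul_step S S
    have h2 := Submodule.finrank_mono hle
    have h4 := Submodule.finrank_mono (inf_le_right : LinearMap.range S ⊓ W ≤ W)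
    have hSA2 : SA (S * S) := fun x y => by
      rw [Module.End.mul_apply, Module.End.mul_apply, hSsa, hSsa]
    obtain ⟨r2, hr2⟩ := hSA2.even_rank
    rw [← hW] at h1
    omega
  -- the decomposition `g = s u`
  haveI : Finite (Sp 3 F) := Finite.of_injective
    (fun g : Sp 3 F => (g : Matrix (Fin 3 ⊕ Fin 3) (Fin 3 ⊕ Fin 3) F)) Subtype.coe_injective
  obtain ⟨e, m, hm, hn⟩ := Nat.exists_eq_pow_mul_and_not_dvd (orderOf_pos g).ne' 3 (by norm_num)
  obtain ⟨j, hj1, hj0⟩ := Nat.chineseRemainder
    ((Nat.Coprime.pow_left e ((Nat.Prime.coprime_iff_not_dvd Nat.prime_three).2 hm)) :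
      Nat.Coprime (3 ^ e) m) 1 0
  set u := g ^ j with hu
  set s := g * u⁻¹ with hs
  have hgsu : g = s * u := by rw [hs, inv_mul_cancel_right]
  have hcsu : Commute s u :=
    ((Commute.self_pow g j).mul_left (Commute.refl u).inv_left)
  have hu1 : u ^ 3 ^ e = 1 := by
    rw [hu, ← pow_mul, ← orderOf_dvd_iff_pow_eq_one, hn, mul_comm j]
    exact Nat.mul_dvd_mul_left _ (Nat.modEq_zero_iff_dvd.1 hj0)
  have hsm : s ^ m = 1 := by
    rw [hs, ((Commute.self_pow g j).inv_right).mul_pow, inv_pow, mul_inv_eq_one, ← pow_mul,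
      pow_eq_pow_iff_modEq, hn]
    have := Nat.ModEq.mul_right' m hj1
    rw [one_mul] at this
    exact this.symm
  have hs3 : ¬ 3 ∣ orderOf s := fun h => hm (h.trans (orderOf_dvd_of_pow_eq_one hsm))
  have hm0 : (m : F) ≠ 0 := fun h => hm ((CharP.cast_eq_zero_iff F 3 m).1 h)
  set p : F[X] := X ^ 2 - C t * X + 1 with hp
  have hpg : aeval (op g) p = op g * S := LinearMap.ext fun x => by
    rw [Module.End.mul_apply, op_apply, hgg, hp]
    simp [sq, op_apply, Module.End.mul_apply, Module.algebraMap_end_apply]
    abel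
  have hcom : Commute (op g) S := LinearMap.ext fun x => (hSg x).symm
  have hpg3 : aeval (op g) p ^ 3 = 0 := by rw [hpg, hcom.mul_pow, h3, mul_zero]
  have hfrob : ∀ k : ℕ, p ^ 3 ^ k = (X ^ 3 ^ k) ^ 2 - C (t ^ 3 ^ k) * X ^ 3 ^ k + 1 := fun k => by
    rw [hp, add_pow_char_pow _ _ 3, sub_pow_char_pow (p := 3), one_pow, mul_pow, ← C_pow, ← pow_mul,
      ← pow_mul, mul_comm 2]
  have hu3 : u ^ 3 = 1 := by
    set P : F[X] := X ^ 2 - C (t ^ 3) * X + 1 with hP
    have hsep : Squarefree P := by
      refine Polynomial.Separable.squarefree ?_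
      have h4 : t ^ 3 * t ^ 3 - 4 ≠ 0 := fun h => ht (by
        have : (t ^ 2 - 4) ^ 3 = 0 := by linear_combination h - (4 * t ^ 4 - 16 * t ^ 2 + 20) * h3'
        exact sub_eq_zero.1 (pow_eq_zero_iff (by norm_num) |>.1 this))
      rw [Polynomial.separable_def, hP]
      refine ⟨C (-4 / (t ^ 3 * t ^ 3 - 4)), C (1 / (t ^ 3 * t ^ 3 - 4)) * (C 2 * X - C (t ^ 3)), ?_⟩
      simp only [derivative_add, derivative_sub, derivative_pow, derivative_X, derivative_mul,
        derivative_C, derivative_one, Nat.cast_ofNat]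
      have e : (C (-4 / (t ^ 3 * t ^ 3 - 4)) : F[X]) = C (1 / (t ^ 3 * t ^ 3 - 4)) * C (-4) := by
        rw [← C_mul]; congr 1; ring
      have e1 : (C (1 / (t ^ 3 * t ^ 3 - 4)) : F[X]) * (C (t ^ 3) * C (t ^ 3) - C 4) = 1 := by
        rw [← C_mul, ← C_sub, ← C_mul, one_div_mul_cancel h4, C_1]
      rw [e]
      simp only [C_neg, show (C (4 : F) : F[X]) = 4 from C_ofNat 4,
        show (C (2 : F) : F[X]) = 2 from C_ofNat 2] at e1 ⊢
      linear_combination e1
    have hPh : aeval (op (g ^ 3)) P = 0 := by
      have := congrArg (aeval (op g)) (hfrob 1)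
      rw [pow_one, map_pow, hpg3] at this
      rw [op_pow, hP]
      simpa [Module.algebraMap_end_eq_smul_id] using this.symm
    have hr : aeval (op (g ^ 3)) (X ^ j - 1 : F[X]) = 0 := by
      refine aeval_eq_zero_of_squarefree hsep hPh (N := 3 ^ e) ?_
      rw [← map_pow, sub_pow_char_pow (p := 3), one_pow, map_sub, ← pow_mul, map_pow, aeval_X,
        map_one, ← op_pow, ← pow_mul, show 3 * (j * 3 ^ e) = (j * 3 ^ e) * 3 by ring, pow_mul g,
        pow_mul g, ← hu, hu1, one_pow, op_one, sub_self]
    rw [map_sub, map_pow, aeval_X, map_one, ← op_pow, sub_eq_zero, ← pow_mul, mul_comm 3,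
      pow_mul, ← hu, ← op_one] at hr
    exact eq_of_smul_eq fun x => LinearMap.congr_fun hr x
  have hps : ∀ x : V, s • s • x - t • s • x + x = 0 := by
    have hz : aeval (op s) p = 0 := by
      refine aeval_eq_zero_of_squarefree (P := X ^ m - 1)
        (Polynomial.Separable.squarefree (X_pow_sub_one_separable_iff.2 hm0)) ?_
        (N := 3 ^ (e + 1)) ?_
      · rw [map_sub, map_pow, aeval_X, map_one, ← op_pow, hsm, op_one, sub_self]
      · have e1 : op s ^ 3 ^ (e + 1) = op g ^ 3 ^ (e + 1) := by
          rw [← op_pow, ← op_pow, hgsu, hcsu.mul_pow, pow_succ 3 e, pow_mul u, hu1, one_pow, mul_one]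
        rw [← map_pow, hfrob]
        have : aeval (op g) (p ^ 3 ^ (e + 1)) = 0 := by
          rw [map_pow, pow_eq_zero_of_le (Nat.le_self_pow (by omega) 3) hpg3]
        rw [hfrob] at this
        simpa [e1, Module.algebraMap_end_eq_smul_id] using this
    intro x
    have := LinearMap.congr_fun hz x
    simpa [hp, sq, Module.End.mul_apply, op_apply, Module.algebraMap_end_apply] using this
  let Y : Module.End F V := op s * op s - algebraMap F _ t * op s + op s * op s * op u
  have hY : ∀ x : V, Y x = s • s • x - t • s • x + s • s • u • x := fun x => rfl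
  have hus : ∀ x : V, u • s • x = s • u • x := fun x => by rw [← mul_smul, ← mul_smul, hcsu.eq]
  have hN3 : ∀ x, nil u (nil u (nil u x)) = 0 := nil_cube hu3
  have hM : op g * S = nil u * Y := LinearMap.ext fun x => by
    rw [Module.End.mul_apply, Module.End.mul_apply, op_apply, hgg, nil_apply, hY, hgsu]
    simp only [mul_smul, smul_sub, smul_add, smul_comm u t, hus]
    have := hps x
    generalize s • s • u • u • x = a
    generalize s • s • u • x = d
    generalize s • u • x = c
    generalize s • s • x = e at this ⊢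
    generalize s • x = f at this ⊢
    linear_combination (norm := module) this
  have hYinj : Function.Injective Y := by
    rw [injective_iff_map_eq_zero]
    intro x hx
    rw [hY] at hx
    have hp' := hps x
    -- `(2s - t) x = -s N x`, squared
    have e1 : (2 : F) • (s • x) - t • x + s • nil u x = 0 := by
      refine MulAction.injective s ?_
      show s • ((2 : F) • (s • x) - t • x + s • nil u x) = s • (0 : V)
      rw [smul_zero, nil_apply]
      simp only [smul_sub, smul_add, smul_comm s t, smul_comm s (2 : F)]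
      generalize s • s • u • x = d at hx ⊢
      generalize s • s • x = y2 at hx ⊢
      generalize s • x = y1 at hx ⊢
      linear_combination (norm := module) hx
    have e2 : (t ^ 2 - 4) • x = s • s • nil u (nil u x) := by
      have a1 := congrArg (fun z => (2 : F) • (s • z) - t • z) e1
      have a2 := congrArg (fun z : V => s • nil u z) e1
      simp only [smul_sub, smul_add, smul_zero, sub_zero, smul_comm s t, smul_comm s (2 : F)] at a1
      simp only [map_add, map_sub, map_smul, map_zero, smul_sub, smul_add, smul_zero,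
        smul_comm s t, smul_comm s (2 : F),
        show ∀ z, nil u (s • z) = s • nil u z from fun z => by
          rw [nil_apply, nil_apply, smul_sub, hus]] at a2
      generalize nil u (nil u x) = n2 at a1 a2 ⊢
      generalize nil u x = n1 at a1 a2 ⊢
      generalize s • s • n2 = q at a1 a2 ⊢
      generalize s • s • n1 = q1 at a1 a2 ⊢
      generalize s • n1 = q2 at a1 a2 ⊢
      generalize s • s • x = y2 at a1 a2 hp' ⊢
      generalize s • x = y1 at a1 a2 hp' ⊢
      linear_combination (norm := module) a1 - a2 - (4 : F) • hp'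
    have hne : t ^ 2 - 4 ≠ 0 := sub_ne_zero.2 ht
    have hNs : ∀ z, nil u (s • z) = s • nil u z := fun z => by
      rw [nil_apply, nil_apply, smul_sub, hus]
    have h1 : nil u x = 0 := by
      have := congrArg (nil u) e2
      rw [map_smul, hNs, hNs, hN3, smul_zero, smul_zero, smul_eq_zero] at this
      exact this.resolve_left hne
    rw [h1, map_zero, smul_zero, smul_zero, smul_eq_zero] at e2
    exact e2.resolve_left hne
  have hYN : Commute Y (nil u) := LinearMap.ext fun x => by
    rw [Module.End.mul_apply, Module.End.mul_apply, nil_apply, nil_apply, hY, hY]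
    simp only [smul_sub, smul_add, smul_comm u t, hus]
    abel
  have hrN : finrank F (LinearMap.range (nil u * nil u)) = 2 := by
    have e1 : (op g * op g) * (S * S) = (nil u * nil u) * (Y * Y) := by
      rw [hcom.mul_mul_mul_comm, hM, hYN.mul_mul_mul_comm]
    have e2 := congrArg (fun f : Module.End F V => finrank F (LinearMap.range f)) e1
    rw [mul_assoc (op g), finrank_range_op_mul, finrank_range_op_mul, hr] at e2
    rw [e2, Module.End.mul_eq_comp (nil u * nil u), LinearMap.range_comp_of_range_eq_top _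
      (LinearMap.range_eq_top.2 ?_)]
    rw [Module.End.coe_mul]
    exact (LinearMap.injective_iff_surjective.1 hYinj).comp
      (LinearMap.injective_iff_surjective.1 hYinj)
  rw [hgsu]
  exact Or.inr (twisted_of_su b hcsu hs3 hu3 hrN)

theorem good_two [Finite F] (b : F) {g : G}
    (h3 : (sym g - algebraMap F _ 2) ^ 3 = 0) : Good b g := by
  set S := sym g - algebraMap F _ 2 with hSdef
  set N := nil g with hN
  have hSa : ∀ x : V, S x = g • x + g⁻¹ • x - (2 : F) • x := fun x => by
    rw [hSdef, LinearMap.sub_apply, Module.algebraMap_end_apply, sym_apply]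
  have hSsa : SA S := fun x y => by
    rw [hSdef]
    simp only [LinearMap.sub_apply, Module.algebraMap_end_apply, map_sub, map_smul,
      LinearMap.smul_apply, sym_sa g x y]
  have hSg : Commute (op g) S := LinearMap.ext fun x => by
    rw [Module.End.mul_apply, Module.End.mul_apply, op_apply, op_apply, hSa, hSa, smul_sub,
      smul_add, inv_smul_smul, smul_inv_smul, smul_comm g (2 : F)]
  have hN2 : N ^ 2 = op g * S := LinearMap.ext fun x => by
    rw [sq, Module.End.mul_apply, Module.End.mul_apply, op_apply, hSa, hN, nil_apply, nil_apply,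
      smul_sub, smul_sub, smul_add, smul_inv_smul, smul_comm g (2 : F)]
    generalize g • g • x = a
    generalize g • x = c
    module
  have hN6 : N ^ 6 = 0 := by
    rw [show (6 : ℕ) = 2 * 3 from rfl, pow_mul, hN2, hSg.mul_pow, h3, mul_zero]
  have heven2 : Even (finrank F (LinearMap.range (N ^ 2))) := by
    rw [hN2, finrank_range_op_mul]; exact hSsa.even_rank
  have heven4 : Even (finrank F (LinearMap.range (N ^ 4))) := by
    rw [show (4 : ℕ) = 2 * 2 from rfl, pow_mul, hN2, hSg.mul_pow, sq (op g), sq S, mul_assoc,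
      finrank_range_op_mul, finrank_range_op_mul]
    refine SA.even_rank fun x y => ?_
    rw [Module.End.mul_apply, Module.End.mul_apply, hSsa, hSsa]
  have hadj : ∀ x y, B (N x) y = -B x (g⁻¹ • N y) := fun x y => by
    rw [hN, nil_apply, nil_apply, smul_sub, inv_smul_smul, map_sub, map_sub, LinearMap.sub_apply,
      B_smul_left]
    ring
  have hNg : ∀ x : V, N (g⁻¹ • x) = g⁻¹ • N x := fun x => by
    rw [hN, nil_apply, nil_apply, smul_inv_smul, smul_sub, inv_smul_smul]
  have hgN : ∀ z : V, N z = 0 → g⁻¹ • z = z := fun z hz => by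
    rw [hN, nil_apply, sub_eq_zero] at hz
    rw [inv_smul_eq_iff, hz]
  by_cases h2 : N ^ 2 = 0
  · have hz : ∀ x, N (N x) = 0 := fun x => by
      rw [← Module.End.mul_apply, ← sq, h2, LinearMap.zero_apply]
    by_cases hx : ∃ x, B (N x) x ≠ 0
    · obtain ⟨x, hx⟩ := hx
      refine Or.inl ⟨N x, x, hx, ?_, ?_⟩
      · have := hz x
        rw [hN, nil_apply _ (nil g x), sub_eq_zero] at this
        rw [← hN] at this
        rw [this]
        exact Submodule.subset_span (by simp)
      · refine Submodule.mem_span_pair.2 ⟨1, 1, ?_⟩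
        rw [one_smul, one_smul, hN, nil_apply, sub_add_cancel]
    · push Not at hx
      have hN0 : ∀ x, N x = 0 := fun x => eq_zero_of_B fun y => by
        have h1 := hx (x + y)
        simp only [map_add, LinearMap.add_apply, hx] at h1
        rw [hadj y x, hgN _ (hz x), ← B_swap] at h1
        have h2 := two_ne_zero' (F := F)
        exact (mul_eq_zero.1 (show (2 : F) * B (N x) y = 0 by linear_combination h1)).resolve_left h2
      have hg : ∀ x : V, g • x = x := fun x => sub_eq_zero.1 (hN0 x)
      refine Or.inl ⟨fI 0, eI 0, ?_, ?_, ?_⟩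
      · rw [sympBilin_apply, sympForm_fI_eI]; exact one_ne_zero
      · rw [hg]; exact Submodule.subset_span (by simp)
      · rw [hg]; exact Submodule.subset_span (by simp)
  by_cases h3' : N ^ 3 = 0
  · have hr : finrank F (LinearMap.range (N * N)) = 2 := by
      have hle : LinearMap.range (N * N) ≤ LinearMap.ker N := by
        rintro _ ⟨x, rfl⟩
        show N ((N * N) x) = 0
        rw [← Module.End.mul_apply, ← mul_assoc, ← pow_three', h3', LinearMap.zero_apply]
      have h1 := Submodule.finrank_mono hle
      have h4 := finrank_range_mul_le N N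
      have h5 := N.finrank_range_add_finrank_ker
      rw [finrank_V] at h5
      have h6 : finrank F (LinearMap.range (N * N)) ≠ 0 := fun h => h2 (by
        rw [sq]
        exact LinearMap.range_eq_bot.1 (Submodule.finrank_eq_zero.1 h))
      rw [sq] at heven2
      obtain ⟨r, hr⟩ := heven2
      omega
    have hg3 : g ^ 3 = 1 := eq_of_smul_eq fun x => by
      have := LinearMap.congr_fun h3' x
      rw [pow_three, Module.End.mul_apply, Module.End.mul_apply, hN, nil_cube_apply,
        LinearMap.zero_apply, sub_eq_zero] at this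
      rw [pow_three, mul_smul, mul_smul, this, one_smul]
    have := twisted_of_su b (Commute.one_left g) (by simp) hg3 hr
    rw [one_mul] at this
    exact Or.inr this
  by_cases h4 : N ^ 4 = 0
  · have hz : ∀ x, N (N (N (N x))) = 0 := fun x => by
      have := LinearMap.congr_fun h4 x
      simpa [pow_succ', Module.End.mul_apply] using this
    obtain ⟨x, hx⟩ : ∃ x, B (N (N (N x))) x ≠ 0 := by
      by_contra! h
      refine h3' (LinearMap.ext fun x => eq_zero_of_B fun y => ?_)
      rw [pow_three, Module.End.mul_apply, Module.End.mul_apply]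
      have h1 := h (x + y)
      simp only [map_add, LinearMap.add_apply, h] at h1
      have h2 : B (N (N (N y))) x = B (N (N (N x))) y := by
        simp only [hadj, hNg, neg_neg, map_neg]
        rw [hgN _ (hz x), hgN _ (hz x), hgN _ (hz x), ← B_swap]
        simp only [hadj, hNg, neg_neg, map_neg]
      have h3 := two_ne_zero' (F := F)
      exact (mul_eq_zero.1 (show (2 : F) * B (N (N (N x))) y = 0 by
        linear_combination h1 - h2)).resolve_left h3
    let ι : (Fin 4 → F) →ₗ[F] V :=
      (LinearMap.proj 0).smulRight x + (LinearMap.proj 1).smulRight (N x) +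
        (LinearMap.proj 2).smulRight (N (N x)) + (LinearMap.proj 3).smulRight (N (N (N x)))
    have hι : ∀ a : Fin 4 → F, ι a = a 0 • x + a 1 • N x + a 2 • N (N x) + a 3 • N (N (N x)) :=
      fun a => rfl
    refine Or.inl (planar_of_sub (U := LinearMap.range ι) ?_ ?_ ?_ ?_)
    · rintro _ ⟨a, rfl⟩
      refine ⟨![a 0, a 0 + a 1, a 1 + a 2, a 2 + a 3], ?_⟩
      have e : g • ι a = ι a + N (ι a) := by rw [hN, nil_apply, add_sub_cancel]
      rw [e, hι, hι]
      simp only [map_add, map_smul, hz, Matrix.cons_val_zero, Matrix.cons_val_one, Matrix.cons_val]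
      module
    · rintro _ ⟨a, rfl⟩ h
      have hk3 : B x (N (N (N x))) ≠ 0 := by rw [B_swap]; exact neg_ne_zero.2 hx
      have hg3 : g⁻¹ • N (N (N x)) = N (N (N x)) := hgN _ (hz x)
      have f0 := h _ ⟨![0, 0, 0, 1], rfl⟩
      have f1 := h _ ⟨![0, 0, 1, 0], rfl⟩
      have f2 := h _ ⟨![0, 1, 0, 0], rfl⟩
      have f3 := h _ ⟨![1, 0, 0, 0], rfl⟩
      simp only [hι, Matrix.cons_val_zero, Matrix.cons_val_one, Matrix.cons_val, one_smul,
        zero_smul, add_zero, zero_add, map_add, map_smul, LinearMap.add_apply,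
        LinearMap.smul_apply, smul_eq_mul, hadj, hNg, map_neg, hz, smul_zero, map_zero,
        neg_zero, mul_zero, hg3, B_self, mul_neg, neg_neg] at f0 f1 f2 f3
      have c0 : a 0 = 0 := (mul_eq_zero.1 f0).resolve_right hk3
      simp only [c0, zero_mul, zero_add, neg_eq_zero, mul_eq_zero, hk3, or_false] at f1
      simp only [c0, f1, zero_mul, neg_zero, zero_add, mul_eq_zero, hk3, or_false] at f2
      simp only [c0, f1, f2, zero_mul, neg_zero, zero_add, neg_eq_zero, mul_eq_zero, hk3, or_false] at f3
      rw [hι, c0, f1, f2, f3]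
      simp
    · intro h
      have : x ∈ (⊥ : Submodule F V) := h ▸ ⟨![1, 0, 0, 0], by simp [hι]⟩
      rw [Submodule.mem_bot] at this
      exact hx (by rw [this]; simp)
    · intro h
      have := LinearMap.finrank_range_le ι
      rw [h, finrank_top, finrank_V, Module.finrank_fin_fun] at this
      omega
  refine Or.inr (twisted_regular hN6 ?_)
  by_contra! h5
  have hz5 : N ^ 5 = 0 := LinearMap.ext h5
  have hstep : ∀ k, k ≤ 4 → finrank F (LinearMap.range (N ^ (k + 1))) +
      finrank F (LinearMap.range (N ^ 4)) ≤ finrank F (LinearMap.range (N ^ k)) := fun k hk => by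
    have h1 := rank_mul_step N (N ^ k)
    rw [← pow_succ'] at h1
    have hle : LinearMap.range (N ^ 4) ≤ LinearMap.range (N ^ k) ⊓ LinearMap.ker N := by
      rintro _ ⟨x, rfl⟩
      refine ⟨?_, ?_⟩
      · obtain ⟨d, hd⟩ := Nat.exists_eq_add_of_le hk
        exact ⟨(N ^ d) x, by rw [hd, pow_add, Module.End.mul_apply]⟩
      · show N ((N ^ 4) x) = 0
        rw [← Module.End.mul_apply, ← pow_succ', hz5, LinearMap.zero_apply]
    have h2 := Submodule.finrank_mono hle
    omega
  have h4' : finrank F (LinearMap.range (N ^ 4)) ≠ 0 := fun h =>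
    h4 (LinearMap.range_eq_bot.1 (Submodule.finrank_eq_zero.1 h))
  obtain ⟨r, hr⟩ := heven4
  have e0 := hstep 0 (by norm_num); have e1 := hstep 1 (by norm_num)
  have e2 := hstep 2 (by norm_num); have e3 := hstep 3 (by norm_num)
  have e5 := Submodule.finrank_le (LinearMap.range (N ^ 0))
  rw [finrank_V] at e5
  simp only [Nat.reduceAdd] at e0 e1 e2 e3 e5
  omega

theorem good_all [Finite F] {b : F} (hb : ∀ x : F, x ^ 3 - x + b ≠ 0) (g : G) : Good b g := by
  set T := sym g with hT
  have hint : IsIntegral F T := Algebra.IsIntegral.isIntegral _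
  have hm0 := minpoly.ne_zero hint
  have hmm : (minpoly F T).Monic := minpoly.monic hint
  obtain ⟨f, hfm, hf, hfd⟩ := exists_monic_irreducible_factor _ (minpoly.not_isUnit F T)
  obtain ⟨k, c, hndvd, hk⟩ := WfDvdMonoid.max_power_factor hm0 hf
  have hc0 : c ≠ 0 := fun h => hm0 (by rw [hk, h, mul_zero])
  have hf0 : 0 < f.natDegree := hf.natDegree_pos
  by_cases hcu : IsUnit c
  swap
  · refine Or.inl (planar_of_coprime (a := f ^ k) (b := c)
      ((hf.coprime_iff_not_dvd).2 hndvd).pow_left (by rw [← hk, minpoly.aeval]) (fun h => ?_)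
      (fun h => ?_))
    · have := natDegree_le_of_dvd (minpoly.dvd F T h) (pow_ne_zero _ hf.ne_zero)
      rw [hk, natDegree_mul (pow_ne_zero _ hf.ne_zero) hc0] at this
      have : c.natDegree = 0 := by omega
      obtain ⟨a, rfl⟩ := natDegree_eq_zero.1 this
      exact hcu (isUnit_C.2 (isUnit_iff_ne_zero.2 fun ha => hc0 (by rw [ha, map_zero])))
    · have := natDegree_le_of_dvd (minpoly.dvd F T h) hc0
      rw [hk, natDegree_mul (pow_ne_zero _ hf.ne_zero) hc0, natDegree_pow] at this
      have hk0 : k ≠ 0 := by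
        rintro rfl
        rw [pow_zero, one_mul] at hk
        exact hndvd (hk ▸ hfd)
      have : 0 < k * f.natDegree := Nat.mul_pos (by omega) hf0
      omega
  obtain ⟨k, rfl⟩ : ∃ j, k = j + 1 := ⟨k - 1, by
    rcases Nat.eq_zero_or_pos k with rfl | h
    · rw [pow_zero, one_mul] at hk
      exact absurd (isUnit_of_dvd_unit (hk ▸ hfd) hcu) hf.not_isUnit
    · omega⟩
  have hfk : aeval T (f ^ (k + 1)) = 0 := by
    obtain ⟨u, hu⟩ := hcu
    have := minpoly.aeval F T
    rw [hk, ← hu] at this
    have e : f ^ (k + 1) = (f ^ (k + 1) * (u : F[X])) * ((u⁻¹ : F[X]ˣ) : F[X]) := by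
      rw [mul_assoc, Units.mul_inv, mul_one]
    rw [e, map_mul, this, zero_mul]
  have hne : aeval T (f ^ k) ≠ 0 := fun h => by
    have := natDegree_le_of_dvd (minpoly.dvd F T h) (pow_ne_zero _ hf.ne_zero)
    rw [hk, natDegree_mul (pow_ne_zero _ hf.ne_zero) hc0, natDegree_pow, natDegree_pow,
      add_mul] at this
    omega
  have hle := degree_le_three hf hfk hne
  rcases (show f.natDegree = 1 ∨ f.natDegree = 2 ∨ f.natDegree = 3 by
    have : f.natDegree ≤ f.natDegree * (k + 1) := Nat.le_mul_of_pos_right _ (by omega)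
    omega) with h1 | h2 | h3
  · rw [h1, one_mul] at hle
    set t : F := -f.coeff 0 with ht
    have hft : f = X - C t := by
      rw [ht, map_neg, sub_neg_eq_add]
      exact hfm.eq_X_add_C h1
    have hT3 : (T - algebraMap F _ t) ^ 3 = 0 := by
      refine pow_eq_zero_of_le hle ?_
      rw [hft, map_pow, map_sub, aeval_X, aeval_C] at hfk
      exact hfk
    by_cases ht4 : t ^ 2 = 4
    swap
    · exact twisted_or_planar_ne b ht4 hT3
    rcases mul_eq_zero.1 (show (t - 2) * (t + 2) = 0 by linear_combination ht4) with h | h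
    · rw [sub_eq_zero.1 h] at hT3
      exact good_two b hT3
    · have hg' : negOne * (negOne * g) = g := eq_of_smul_eq fun x => by
        rw [mul_smul, mul_smul, negOne_smul, negOne_smul, neg_neg]
      rw [← hg']
      refine good_neg (good_two b ?_)
      have e : sym (negOne * g) - algebraMap F _ 2 = -(T - algebraMap F _ t) := by
        refine LinearMap.ext fun x => ?_
        have hn : (negOne * g)⁻¹ • x = -(g⁻¹ • x) := by
          rw [inv_smul_eq_iff, mul_smul, negOne_smul, smul_neg g, smul_inv_smul, neg_neg]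
        simp only [hT, LinearMap.sub_apply, LinearMap.neg_apply, sym_apply,
          Module.algebraMap_end_apply, mul_smul, negOne_smul, hn, eq_neg_of_add_eq_zero_left h]
        generalize g • x = a
        generalize g⁻¹ • x = c
        module
      rw [e]
      refine LinearMap.ext fun x => ?_
      have h1 := LinearMap.congr_fun hT3 x
      simp only [pow_three, Module.End.mul_apply, LinearMap.neg_apply, map_neg, neg_neg,
        LinearMap.zero_apply] at h1 ⊢
      rw [h1, neg_zero]
  · exfalso
    have hk0 : k = 0 := by rw [h2] at hle; omega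
    subst hk0
    rw [pow_one] at hfk
    exact not_quadratic (sym_sa g) hfm hf h2 hfk
  · have hk0 : k = 0 := by rw [h3] at hle; omega
    subst hk0
    rw [pow_one] at hfk
    exact Or.inr (twisted_of_cubic_factor hb hf h3 hfk)

/-- The stabiliser of the plane `⟨e₀, f₀⟩`. -/
def planeStab : Subgroup G where
  carrier := {g | ∀ v : V, v ∈ supp ({1, 2} : Finset (Fin 3)) ↔ g • v ∈ supp ({1, 2} : Finset (Fin 3))}
  one_mem' v := by rw [one_smul]
  mul_mem' {a c} ha hc v := by rw [mul_smul, ← ha, ← hc]
  inv_mem' {a} ha v := by rw [ha (a⁻¹ • v), smul_inv_smul]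

theorem exists_b [Fintype F] : ∃ b : F, ∀ x : F, x ^ 3 - x + b ≠ 0 := by
  by_contra! h
  have hs : Function.Surjective fun x : F => x ^ 3 - x := fun y => by
    obtain ⟨x, hx⟩ := h (-y)
    exact ⟨x, by linear_combination hx⟩
  exact one_ne_zero (Finite.injective_iff_surjective.2 hs
    (show (1 : F) ^ 3 - 1 = 0 ^ 3 - 0 by norm_num))

theorem twistGroup_ne_top {b : F} (hb : b ≠ 0) : twistGroup b ≠ ⊤ := by
  refine ne_top_of_notMem (g := tv (eI 0) (1 : F)) fun h => ?_
  obtain ⟨i, -, hi⟩ := h
  have h1 := congrFun (hi (eI 1)) (Sum.inl 1)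
  simp [tv_smul, sympForm_eI_right, root0, mop_apply, eI, smul_eq] at h1
  have h2 := congrFun (hi (fI 0)) (Sum.inl 1)
  simp [tv_smul, root0, mop_apply, eI, fI, h1, sympForm_eq_sum, Fin.sum_univ_three] at h2
  exact hb h2

theorem planeStab_ne_top : (planeStab : Subgroup G) ≠ ⊤ := by
  refine ne_top_of_notMem (g := tv (fI 0 + fI 1) (1 : F)) fun h => ?_
  have := (h (eI 0)).1 (eI_mem_supp (by decide))
  rw [mem_supp] at this
  have h1 := this 1 (by decide)
  simp [tv_smul, eI, fI, sympForm_eq_sum, Fin.sum_univ_three] at h1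

theorem center_le_twist (b : F) : Subgroup.center G ≤ twistGroup b := by
  intro g hg
  rcases mem_center_iff.1 hg with rfl | rfl
  · exact one_mem _
  · exact ⟨0, by simp, fun x => by rw [negOne_smul, negOne_smul, map_neg, zero_smul, add_zero]⟩

theorem center_le_plane : Subgroup.center G ≤ (planeStab : Subgroup G) := by
  intro g hg
  rcases mem_center_iff.1 hg with rfl | rfl
  · exact one_mem _
  · intro v; rw [negOne_smul, Submodule.neg_mem_iff]

theorem covered [Fintype F] : Covered (Cfsg.PSp 3 F) := by
  obtain ⟨b, hb⟩ := exists_b (F := F)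
  have hb0 : b ≠ 0 := fun h => hb 0 (by simp [h])
  refine covered_quotient _ planeStab (twistGroup b) center_le_plane (center_le_twist b)
    planeStab_ne_top (twistGroup_ne_top hb0) fun g => ?_
  rcases good_all hb g with ⟨a, c, hac, ha, hc⟩ | h
  · set a' := (B a c)⁻¹ • a with ha'
    have hac' : sympForm 3 F a' c = 1 := by
      rw [ha', sympForm_smul_left, ← sympBilin_apply, inv_mul_cancel₀ hac]
    obtain ⟨x, hx1, hx2⟩ := exists_smul_pair (u := fI 0) (v := eI 0) (sympForm_fI_eI 0) hac'
    refine ⟨x⁻¹, Or.inl ?_⟩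
    rw [inv_inv]
    have hsp : ∀ v : V, v ∈ supp ({1, 2} : Finset (Fin 3)) ↔ x • v ∈ Submodule.span F {a, c} := by
      intro v
      constructor
      · intro hv
        rw [mem_supp] at hv
        have e : v = v (Sum.inl 0) • eI 0 + v (Sum.inr 0) • fI 0 := by
          funext i
          have h1 := hv 1 (by decide)
          have h2 := hv 2 (by decide)
          rcases i with i | i <;> fin_cases i <;> simp [eI, fI, h1.1, h1.2, h2.1, h2.2]
        rw [e, smul_add x, smul_comm x, smul_comm x, hx1, hx2, ha', smul_smul]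
        exact Submodule.mem_span_pair.2 ⟨_, _, add_comm _ _⟩
      · intro hv
        obtain ⟨p, r, hpr⟩ := Submodule.mem_span_pair.1 hv
        have : v = (p * B a c) • fI 0 + r • eI 0 := by
          refine MulAction.injective x ?_
          show x • v = x • ((p * B a c) • (fI 0 : V) + r • eI 0)
          rw [smul_add x, smul_comm x, smul_comm x, hx1, hx2, ha', smul_smul, mul_assoc,
            mul_inv_cancel₀ hac, mul_one, hpr]
        rw [this]
        exact Submodule.add_mem _ (Submodule.smul_mem _ _ (fI_mem_supp (by decide)))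
          (Submodule.smul_mem _ _ (eI_mem_supp (by decide)))
    have hfwd : ∀ v ∈ Submodule.span F ({a, c} : Set V), g • v ∈ Submodule.span F {a, c} := by
      intro v hv
      obtain ⟨p, r, rfl⟩ := Submodule.mem_span_pair.1 hv
      rw [smul_add g, smul_comm g, smul_comm g]
      exact Submodule.add_mem _ (Submodule.smul_mem _ _ ha) (Submodule.smul_mem _ _ hc)
    have hback : ∀ v : V, g • v ∈ Submodule.span F {a, c} → v ∈ Submodule.span F {a, c} := by
      intro v hv
      have hinj : Function.Injective (op g) := fun p r e => MulAction.injective g e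
      have heq : (Submodule.span F {a, c}).map (op g) = Submodule.span F {a, c} :=
        Submodule.eq_of_le_of_finrank_eq (Submodule.map_le_iff_le_comap.2 hfwd)
          (LinearEquiv.finrank_eq (Submodule.equivMapOfInjective (op g) hinj _)).symm
      rw [← heq] at hv
      obtain ⟨w, hw, hwv⟩ := hv
      exact hinj hwv ▸ hw
    intro v
    rw [hsp, hsp, mul_smul, mul_smul, smul_inv_smul]
    exact ⟨hfwd _, hback _⟩
  · obtain ⟨x, hx⟩ := exists_conj_twist hb h
    exact ⟨x, Or.inr hx⟩

end Cfsg.Agent.Cover98.SympThree
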