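import Cfsg.Agent.Cover98.Herm

/-!
`PSU₄`: stabilisers of a totally isotropic line and of a non-isotropic point cover
(helper98, S2500).
-/

set_option autoImplicit false

namespace Cfsg.Agent.Cover98.UnitaryFour

open Polynomial Cfsg.Agent.Unitary Matrix Cfsg.Agent.Cover98.Herm

variable {F : Type*} [Field F] {q : ℕ}

local notation "V" => (Fin 4 → F)
local notation "G" => SU 4 F q

/-- A standard totally isotropic plane. -/
def plane (c : F) : Submodule F V where
  carrier := {v | v 1 = c * v 0 ∧ v 3 = c * v 2}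
  add_mem' ha hb := ⟨by simp [ha.1, hb.1, mul_add], by simp [ha.2, hb.2, mul_add]⟩
  zero_mem' := by simp
  smul_mem' a v hv := ⟨by simp [hv.1]; ring, by simp [hv.2]; ring⟩

theorem mem_plane {c : F} {v : V} : v ∈ plane c ↔ v 1 = c * v 0 ∧ v 3 = c * v 2 := Iff.rfl

/-- The functional `x ↦ h(x, b)`. -/
def lf (q : ℕ) (b : V) : V →ₗ[F] F where
  toFun x := herm q x b
  map_add' x y := herm_add_left x y b
  map_smul' a x := herm_smul_left a x b

/-- The orthogonal of two vectors. -/
def orth (q : ℕ) (a b : V) : Submodule F V := LinearMap.ker ((lf q a).prod (lf q b))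

theorem mem_orth {a b x : V} : x ∈ orth q a b ↔ herm q x a = 0 ∧ herm q x b = 0 := by
  simp [orth, lf]

theorem not_orth_le (a b v : V) : ¬ orth q a b ≤ F ∙ v := by
  intro h
  have h1 := LinearMap.finrank_range_add_finrank_ker ((lf q a).prod (lf q b))
  have h2 := Submodule.finrank_le (LinearMap.range ((lf q a).prod (lf q b)))
  have h3 := Submodule.finrank_mono h
  have h4 : Module.finrank F (F ∙ v) ≤ 1 :=
    (finrank_span_le_card ({v} : Set V)).trans (by simp)
  rw [Module.finrank_prod, Module.finrank_self] at h2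
  rw [Module.finrank_fin_fun] at h1
  rw [orth] at h3
  omega

/-- What a covering needs from an element. -/
def Good (g : G) : Prop :=
  (∃ v : V, herm q v v ≠ 0 ∧ g • v ∈ F ∙ v) ∨
    ∃ a b : V, (∀ s t : F, s • a + t • b = 0 → s = 0 ∧ t = 0) ∧ herm q a a = 0 ∧ herm q b b = 0 ∧
      herm q a b = 0 ∧ (∃ s t : F, g • a = s • a + t • b) ∧ ∃ s t : F, g • b = s • a + t • b

variable [Fintype F] (hF : Fintype.card F = q ^ 2)
include hF

theorem good_of_isotropic {g : G} {v u : V} {l m c : F} (hv0 : v ≠ 0) (hv : herm q v v = 0)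
    (hgv : g • v = l • v) (hu : herm q u u = 0) (huv : herm q u v = 0) (hun : u ∉ F ∙ v)
    (hgu : g • u = m • u + c • v) : Good g := by
  refine Or.inr ⟨v, u, fun s t h => ?_, hv, hu, (herm_eq_zero_comm hF).1 huv,
    ⟨l, 0, by rw [hgv, zero_smul, add_zero]⟩, c, m, by rw [hgu, add_comm]⟩
  have ht : t = 0 := by
    by_contra ht
    refine hun (Submodule.mem_span_singleton.2 ⟨-(t⁻¹ * s), ?_⟩)
    rw [← sub_eq_zero]
    calc -(t⁻¹ * s) • v - u = -(t⁻¹ • (s • v + t • u)) := by
          rw [smul_add, smul_smul, inv_smul_smul₀ ht]; module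
      _ = 0 := by rw [h, smul_zero, neg_zero]
  subst ht
  rw [zero_smul, add_zero, smul_eq_zero] at h
  exact ⟨h.resolve_right hv0, rfl⟩

theorem good_of_ne {g : G} {v u : V} {l m c : F} (hv : herm q v v = 0) (hgv : g • v = l • v)
    (hu : herm q u u ≠ 0) (huv : herm q u v = 0) (hgu : g • u = m • u + c • v) (hlm : m ≠ l) :
    Good g := by
  have hvu : herm q v u = 0 := (herm_eq_zero_comm hF).1 huv
  refine Or.inl ⟨u + (c / (m - l)) • v, ?_, Submodule.mem_span_singleton.2 ⟨m, ?_⟩⟩
  · simpa [herm_add_left, herm_add_right hF, herm_smul_left, herm_smul_right hF, hv, huv, hvu]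
      using hu
  · rw [smul_add g, hgu, smul_comm g, hgv, smul_add, smul_smul, smul_smul, add_assoc, ← add_smul]
    congr 2
    field_simp [sub_ne_zero.2 hlm]
    ring

theorem good_split {g : G}
    (hsplit : ∀ p : F[X], Irreducible p → p ∣ minpoly F (op g) → p.natDegree = 1) : Good g := by
  have hint : IsIntegral F (op g) := Algebra.IsIntegral.isIntegral _
  have h0 : minpoly F (op g) ≠ 0 := minpoly.ne_zero hint
  have hz : ∀ (N : Submodule F V) (w : V), aeval (op g) (minpoly F (op g)) w ∈ N := fun N w => by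
    rw [minpoly.aeval, LinearMap.zero_apply]; exact N.zero_mem
  obtain ⟨v, -, hv0, l, hl⟩ := exists_near (S := op g) (W := ⊤) (N := ⊥)
    (fun w _ => Submodule.mem_top) _ h0 hsplit (fun w _ => hz _ w) (by simp)
  rw [Submodule.mem_bot, sub_eq_zero] at hl
  simp only [Submodule.mem_bot] at hv0
  rw [op_apply] at hl
  by_cases hvv : herm q v v = 0
  swap
  · exact Or.inl ⟨v, hvv, Submodule.mem_span_singleton.2 ⟨l, hl.symm⟩⟩
  have hl0 : l ≠ 0 := fun h => hv0 (MulAction.injective g
    (show g • v = g • (0 : V) by rw [hl, h, zero_smul, smul_zero]))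
  have hgv' : g⁻¹ • v = l⁻¹ • v := by
    rw [inv_smul_eq_iff, smul_comm g, hl, inv_smul_smul₀ hl0]
  have hW : ∀ w ∈ orth q v v, op g w ∈ orth q v v := fun w hw => by
    rw [mem_orth] at hw ⊢
    have : herm q (g • w) v = 0 := by
      rw [← herm_smul_SU g⁻¹, inv_smul_smul, hgv', herm_smul_right hF, hw.1, mul_zero]
    exact ⟨this, this⟩
  obtain ⟨u, huW, hun, m, hm⟩ := exists_near (S := op g) (N := F ∙ v) hW _ h0 hsplit
    (fun w _ => hz _ w) (not_orth_le v v v)
  obtain ⟨c, hc⟩ := Submodule.mem_span_singleton.1 hm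
  have hgu : g • u = m • u + c • v := by rw [hc, op_apply]; abel
  have huv := (mem_orth.1 huW).1
  by_cases huu : herm q u u = 0
  · exact good_of_isotropic hF hv0 hvv hl huu huv hun hgu
  by_cases hml : m = l
  swap
  · exact good_of_ne hF hvv hl huu huv hgu hml
  subst hml
  have hgu' : g⁻¹ • u = m⁻¹ • u + (-(m⁻¹ * c * m⁻¹)) • v := by
    rw [inv_smul_eq_iff, smul_add g, smul_comm g, smul_comm g, hgu, hl, smul_add, smul_smul,
      smul_smul, smul_smul, inv_mul_cancel₀ hl0, one_smul, add_assoc, ← add_smul]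
    rw [show m⁻¹ * c + -(m⁻¹ * c * m⁻¹) * m = 0 by field_simp; ring, zero_smul, add_zero]
  have hW2 : ∀ w ∈ orth q v u, op g w ∈ orth q v u := fun w hw => by
    rw [mem_orth] at hw ⊢
    refine ⟨?_, ?_⟩
    · rw [op_apply, ← herm_smul_SU g⁻¹, inv_smul_smul, hgv', herm_smul_right hF, hw.1, mul_zero]
    · rw [op_apply, ← herm_smul_SU g⁻¹, inv_smul_smul, hgu', herm_add_right hF,
        herm_smul_right hF, herm_smul_right hF, hw.1, hw.2, mul_zero, mul_zero, add_zero]
  obtain ⟨w, hwW, hwn, k, hk⟩ := exists_near (S := op g) (N := F ∙ v) hW2 _ h0 hsplit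
    (fun w _ => hz _ w) (not_orth_le v u v)
  obtain ⟨e, he⟩ := Submodule.mem_span_singleton.1 hk
  have hgw : g • w = k • w + e • v := by rw [he, op_apply]; abel
  obtain ⟨hwv, hwu⟩ := mem_orth.1 hwW
  by_cases hww : herm q w w = 0
  · exact good_of_isotropic hF hv0 hvv hl hww hwv hwn hgw
  by_cases hkl : k = m
  swap
  · exact good_of_ne hF hvv hl hww hwv hgw hkl
  subst hkl
  obtain ⟨b, hb⟩ := exists_norm_eq hF (t := -(herm q u u) / herm q w w)
    (by rw [div_pow, neg_pow_q hF, herm_self_fixed hF, herm_self_fixed hF])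
  rw [eq_div_iff hww] at hb
  have huw : herm q u w = 0 := (herm_eq_zero_comm hF).1 hwu
  refine good_of_isotropic hF (u := u + b • w) (m := k) (c := c + b * e) hv0 hvv hl ?_ ?_ ?_ ?_
  · rw [herm_add_left, herm_add_right hF, herm_add_right hF, herm_smul_left, herm_smul_left,
      herm_smul_right hF, herm_smul_right hF, huw, hwu]
    rw [pow_succ] at hb
    linear_combination hb
  · rw [herm_add_left, herm_smul_left, huv, hwv, mul_zero, add_zero]
  · intro hmem
    obtain ⟨s, hs⟩ := Submodule.mem_span_singleton.1 hmem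
    refine huu ?_
    have := congrArg (fun z => herm q z u) hs
    simp only [herm_add_left, herm_smul_left, hwu, (herm_eq_zero_comm hF).1 huv, mul_zero,
      add_zero] at this
    exact this.symm
  · rw [smul_add g, smul_comm g, hgu, hgw]
    module

theorem good_all (g : G) : Good g := by
  by_cases hsplit : ∀ p : F[X], Irreducible p → p ∣ minpoly F (op g) → p.natDegree = 1
  · exact good_split hF hsplit
  push Not at hsplit
  obtain ⟨p, hp, hpd, hd⟩ := hsplit
  have hd1 : 2 ≤ p.natDegree := by have := hp.natDegree_pos; omega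
  obtain ⟨x, hx0, hx⟩ : ∃ x : V, x ≠ 0 ∧ aeval (op g) p x = 0 := by
    obtain ⟨r, hr⟩ := hpd
    have hm0 := minpoly.ne_zero (Algebra.IsIntegral.isIntegral (R := F) (op g))
    have hr0 : aeval (op g) r ≠ 0 := fun e => by
      have := natDegree_le_of_dvd (minpoly.dvd F (op g) e) (fun h => hm0 (by rw [hr, h, mul_zero]))
      rw [hr, natDegree_mul hp.ne_zero (fun h => hm0 (by rw [hr, h, mul_zero]))] at this
      omega
    obtain ⟨z, hz⟩ : ∃ z, aeval (op g) r z ≠ 0 := by
      by_contra! h
      exact hr0 (LinearMap.ext h)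
    refine ⟨_, hz, ?_⟩
    rw [← Module.End.mul_apply, ← map_mul, ← hr, minpoly.aeval, LinearMap.zero_apply]
  have hroot : ∀ a : F, p.eval a ≠ 0 := fun a h => by
    have := degree_eq_one_of_irreducible_of_root hp h
    rw [degree_eq_natDegree hp.ne_zero] at this
    norm_cast at this
  have hdiv : p ∣ (op g).charpoly := hpd.trans (LinearMap.minpoly_dvd_charpoly _)
  have hcdeg : (op g).charpoly.natDegree = 4 := by
    rw [LinearMap.charpoly_natDegree, Module.finrank_fin_fun]
  obtain ⟨r, hr⟩ := hdiv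
  have hc0 : (op g).charpoly ≠ 0 := (LinearMap.charpoly_monic _).ne_zero
  have hr0 : r ≠ 0 := fun h => hc0 (by rw [hr, h, mul_zero])
  rw [hr, natDegree_mul hp.ne_zero hr0] at hcdeg
  rcases (show p.natDegree = 2 ∨ p.natDegree = 3 ∨ p.natDegree = 4 by omega) with h2 | h3 | h4
  · refine Or.inr ⟨x, g • x, fun s t h => ?_, ?_, ?_, ?_, ⟨0, 1, by simp⟩, ?_⟩
    · have ht : t = 0 := by
        by_contra ht
        have e : op g x = (-(t⁻¹ * s)) • x := by
          rw [op_apply]
          calc g • x = t⁻¹ • (s • x + t • (g • x)) - (t⁻¹ * s) • x := by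
                rw [smul_add, smul_smul, inv_smul_smul₀ ht]; abel
            _ = _ := by rw [h, smul_zero, zero_sub, neg_smul]
        have := Module.End.aeval_apply_of_hasEigenvector (p := p)
          (show Module.End.HasEigenvector (op g) (-(t⁻¹ * s)) x from
            ⟨Module.End.mem_eigenspace_iff.2 e, hx0⟩)
        rw [hx, eq_comm, smul_eq_zero] at this
        exact hroot _ (this.resolve_right hx0)
      subst ht
      rw [zero_smul, add_zero, smul_eq_zero] at h
      exact ⟨h.resolve_right hx0, rfl⟩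
    · exact ker_isotropic hF hp (by rw [h2]; exact even_two) g hx hx
    · rw [herm_smul_SU]
      exact ker_isotropic hF hp (by rw [h2]; exact even_two) g hx hx
    · refine ker_isotropic hF hp (by rw [h2]; exact even_two) g hx ?_
      rw [← op_apply, show op g x = aeval (op g) (X : F[X]) x by rw [aeval_X], ← Module.End.mul_apply,
        ← map_mul, mul_comm, map_mul, Module.End.mul_apply, hx, map_zero]
    · rw [eq_quadratic_of_degree_le_two (natDegree_le_iff_degree_le.1 h2.le)] at hx
      simp only [map_add, map_mul, aeval_C, map_pow, aeval_X, LinearMap.add_apply,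
        Module.End.mul_apply, Module.algebraMap_end_apply, sq, op_apply] at hx
      have hlead : p.coeff 2 ≠ 0 := by rw [← h2]; exact leadingCoeff_ne_zero.2 hp.ne_zero
      refine ⟨-((p.coeff 2)⁻¹ * p.coeff 0), -((p.coeff 2)⁻¹ * p.coeff 1), ?_⟩
      have := congrArg ((p.coeff 2)⁻¹ • ·) hx
      simp only [smul_add, smul_zero, inv_smul_smul₀ hlead] at this
      rw [← sub_eq_zero]
      generalize g • g • x = y at this ⊢
      generalize g • x = z at this ⊢
      linear_combination (norm := module) this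
  · have hr1 : r.natDegree = 1 := by omega
    obtain ⟨l, hl⟩ := exists_root_of_degree_eq_one
      (show r.degree = 1 by rw [degree_eq_natDegree hr0, hr1]; rfl)
    have hev : Module.End.HasEigenvalue (op g) l :=
      Module.End.hasEigenvalue_iff_isRoot_charpoly _ _ |>.2 (by rw [hr]; simp [hl.eq_zero])
    obtain ⟨v, hv⟩ := hev.exists_hasEigenvector
    by_cases hE : ∀ a ∈ Module.End.eigenspace (op g) l, herm q a a = 0
    swap
    · push Not at hE
      obtain ⟨a, ha, haa⟩ := hE
      exact Or.inl ⟨a, haa, Submodule.mem_span_singleton.2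
        ⟨l, by rw [← op_apply, Module.End.mem_eigenspace_iff.1 ha]⟩⟩
    exfalso
    have hgv : g • v = l • v := by rw [← op_apply]; exact hv.apply_eq_smul
    have hl0 : l ≠ 0 := fun h => hv.2 (MulAction.injective g
      (show g • v = g • (0 : V) by rw [hgv, h, zero_smul, smul_zero]))
    have hv' : Module.End.HasEigenvector (op g⁻¹) l⁻¹ v := by
      refine ⟨Module.End.mem_eigenspace_iff.2 ?_, hv.2⟩
      rw [op_apply, inv_smul_eq_iff, smul_comm g, hgv, inv_smul_smul₀ hl0]
    have hrl : ∃ b : F, b ≠ 0 ∧ r = C b * (X - C l) := by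
      refine ⟨r.coeff 1, by rw [← hr1]; exact leadingCoeff_ne_zero.2 hr0, ?_⟩
      have e := eq_X_add_C_of_natDegree_le_one hr1.le
      have h0 := hl.eq_zero
      rw [e] at h0 ⊢
      simp at h0 ⊢
      rw [eq_neg_of_add_eq_zero_right h0, map_neg, map_mul]
      ring
    obtain ⟨b, hb0, hb⟩ := hrl
    refine hv.2 (eq_zero_of_herm hF fun z => ?_)
    rw [herm_eq_zero_comm hF]
    have hmem : aeval (op g) p z ∈ Module.End.eigenspace (op g) l := by
      rw [Module.End.mem_eigenspace_iff]
      have h1 := LinearMap.congr_fun (LinearMap.aeval_self_charpoly (op g)) z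
      rw [hr, mul_comm, hb, map_mul, map_mul, aeval_C, map_sub, aeval_X, aeval_C,
        Module.End.mul_apply, Module.End.mul_apply, Module.algebraMap_end_apply,
        LinearMap.sub_apply, Module.algebraMap_end_apply, LinearMap.zero_apply, smul_eq_zero] at h1
      exact sub_eq_zero.1 (h1.resolve_left hb0)
    have h0 := isotropic_sub hF hE hmem hv.1
    rw [herm_aeval hF, Module.End.aeval_apply_of_hasEigenvector hv', herm_smul_right hF,
      mul_eq_zero, pow_q_eq_zero_iff hF, eval_conj hF, pow_q_eq_zero_iff hF] at h0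
    exact h0.resolve_left (hroot _)
  · exfalso
    have hr1 : r.natDegree = 0 := by omega
    obtain ⟨b, rfl⟩ := natDegree_eq_zero.1 hr1
    have hb : b ≠ 0 := fun h => hr0 (by rw [h, map_zero])
    have hker : aeval (op g) p (eI 0) = 0 := by
      have h1 := LinearMap.congr_fun (LinearMap.aeval_self_charpoly (op g)) (eI 0)
      rw [hr, mul_comm, map_mul, aeval_C, Module.End.mul_apply, Module.algebraMap_end_apply,
        LinearMap.zero_apply, smul_eq_zero] at h1
      exact h1.resolve_left hb
    have := ker_isotropic hF hp (by rw [h4]; exact ⟨2, rfl⟩) g hker hker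
    rw [herm_eI_eI hF, if_pos rfl] at this
    exact one_ne_zero this

theorem line_ne_top : stab (q := q) (F ∙ (eI 0 : V)) ≠ ⊤ := by
  obtain ⟨x, hx⟩ := exists_move_line hF (n := 4) (by norm_num) (v := (eI 1 : V))
    (by rw [herm_eI_eI hF, if_pos rfl]; exact one_ne_zero)
  refine ne_top_of_notMem (g := x) fun h => ?_
  have h1 := (hx (eI 0)).1 (Submodule.mem_span_singleton_self _)
  have h2 := (h (eI 0)).1 (Submodule.mem_span_singleton_self _)
  obtain ⟨s, hs⟩ := Submodule.mem_span_singleton.1 h1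
  obtain ⟨t, ht⟩ := Submodule.mem_span_singleton.1 h2
  have hz : x • (eI 0 : V) = x • (0 : V) := by
    rw [smul_zero, ← hs]
    have := congrFun (hs.trans ht.symm) 1
    simp [eI] at this
    rw [this, zero_smul]
  have := congrFun (MulAction.injective x hz) 0
  simp [eI] at this

theorem plane_ne_top {c : F} (hc : c ≠ 0) : stab (q := q) (plane c) ≠ ⊤ := by
  obtain ⟨d, hd, hd1⟩ : ∃ d : F, d ^ (q + 1) = 1 ∧ d ≠ 1 := by
    by_contra! h
    have h1 := card_norm_eq_one hF
    have : Subsingleton {x : F // x ^ (q + 1) = 1} :=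
      ⟨fun a b => Subtype.ext ((h _ a.2).trans (h _ b.2).symm)⟩
    rw [Nat.card_eq_one_iff_unique.2 ⟨this, ⟨⟨1, one_pow _⟩⟩⟩] at h1
    have := q_pos hF
    omega
  obtain ⟨D, hDd, hD⟩ := exists_diag hd hF (1 : Fin 4)
  obtain ⟨E, hEd, hE⟩ := exists_diag (a := d⁻¹) (by rw [inv_pow, hd, inv_one]) hF (2 : Fin 4)
  have hker : D * E ∈ (detGU : GU 4 F q →* Fˣ).ker := by
    rw [MonoidHom.mem_ker, map_mul]
    refine Units.ext ?_
    rw [Units.val_mul, hDd, hEd, Units.val_one]
    exact mul_inv_cancel₀ (fun h => by simp [h] at hd)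
  rw [← range_toGU] at hker
  obtain ⟨x, hx⟩ := hker
  refine ne_top_of_notMem (g := x) fun h => ?_
  have h1 := (h (eI 0 + c • eI 1)).1 (by simp [mem_plane, eI])
  rw [← toGU_smul, hx, mul_smul, mem_plane, hD, hD, hE, hE] at h1
  simp [eI, hc, hd1] at h1

theorem covered : Covered (Cfsg.PSU 4 F q) := by
  obtain ⟨c, hc⟩ := exists_norm_eq hF (t := (-1 : F)) (by rw [neg_pow_q hF, one_pow])
  have hc0 : c ≠ 0 := by
    rintro rfl
    rw [zero_pow (Nat.succ_ne_zero q)] at hc
    exact one_ne_zero (neg_eq_zero.1 hc.symm)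
  refine covered_quotient _ (stab (plane c)) (stab (F ∙ (eI 0 : V)))
    (center_le_stab (by norm_num) _ hF) (center_le_stab (by norm_num) _ hF)
    (plane_ne_top hF hc0) (line_ne_top hF) fun g => ?_
  rcases good_all hF g with ⟨v, hv, hgv⟩ | ⟨a, b, hind, haa, hbb, hab, hga, hgb⟩
  · obtain ⟨x, hx⟩ := exists_move_line hF (n := 4) (by norm_num) hv
    refine ⟨x⁻¹, Or.inr ?_⟩
    rw [inv_inv]
    refine conj_mem_stab (mem_stab_of_maps fun w hw => ?_) hx
    obtain ⟨s, rfl⟩ := Submodule.mem_span_singleton.1 hw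
    rw [smul_comm g]
    exact Submodule.smul_mem _ s hgv
  · set L : Submodule F V := Submodule.span F {a, b}
    let f : V →ₗ[F] V :=
      (LinearMap.proj 0 : V →ₗ[F] F).smulRight a + (LinearMap.proj 2 : V →ₗ[F] F).smulRight b
    have hfv : ∀ v : V, f v = v 0 • a + v 2 • b := fun v => rfl
    have hba : herm q b a = 0 := (herm_eq_zero_comm hF).1 hab
    have hiso : ∀ u ∈ plane c, ∀ v ∈ plane c, herm q u v = 0 := by
      intro u hu v hv
      rw [mem_plane] at hu hv
      show ∑ i, u i * v i ^ q = 0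
      rw [Fin.sum_univ_four, hu.1, hu.2, hv.1, hv.2, mul_pow, mul_pow]
      rw [pow_succ] at hc
      linear_combination (u 0 * v 0 ^ q + u 2 * v 2 ^ q) * hc
    obtain ⟨T, -, hT⟩ := exists_fixGU_of_map hF (∅ : Finset (Fin 4)) (plane c) f
      (by simp) (by simp) (fun v hv h => by
        obtain ⟨h0, h2⟩ := hind _ _ (hfv v ▸ h)
        rw [mem_plane] at hv
        funext i
        fin_cases i <;> simp [h0, h2, hv.1, hv.2])
      (fun u hu v hv => by
        rw [hiso u hu v hv, hfv, hfv]
        simp [herm_add_left, herm_add_right hF, herm_smul_left, herm_smul_right hF, haa, hbb,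
          hab, hba])
    have hTW : ∀ v : V, v ∈ plane c ↔ T • v ∈ L := by
      intro v
      constructor
      · intro hv
        rw [hT v hv, hfv]
        exact Submodule.mem_span_pair.2 ⟨_, _, rfl⟩
      · intro hv
        obtain ⟨s, t, hst⟩ := Submodule.mem_span_pair.1 hv
        have hw : ![s, c * s, t, c * t] ∈ plane c := by simp [mem_plane]
        have : T • v = T • (![s, c * s, t, c * t] : V) := by
          rw [hT _ hw, hfv, ← hst]
          simp
        rw [MulAction.injective T this]
        exact hw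
    obtain ⟨x, hx⟩ := exists_SU_move hF T hTW fun d hd => by
      set u : V := ![1, c, 0, 0]
      have hu : herm q u u = 0 := hiso _ (by simp [mem_plane, u]) _ (by simp [mem_plane, u])
      obtain ⟨v, -, hvv, huv⟩ := exists_partner hF (S := (∅ : Finset (Fin 4)))
        (by simp [supp_empty]) hu (fun h => by simpa [u] using congrFun h 0)
      obtain ⟨e, he0, he⟩ := exists_ratio hF hd
      obtain ⟨D, hDd, hD⟩ := exists_scale hF hu hvv huv he0
      refine ⟨D, hDd.trans he, fun w hw => ?_⟩
      rw [hD, hiso w hw u (by simp [mem_plane, u]), mul_zero, zero_smul, add_zero]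
      exact Submodule.add_mem _ hw (Submodule.smul_mem _ _ (by simp [mem_plane, u]))
    refine ⟨x⁻¹, Or.inl ?_⟩
    rw [inv_inv]
    refine conj_mem_stab (mem_stab_of_maps fun w hw => ?_) hx
    obtain ⟨s, t, rfl⟩ := Submodule.mem_span_pair.1 hw
    rw [smul_add g, smul_comm g, smul_comm g]
    obtain ⟨s1, t1, h1⟩ := hga
    obtain ⟨s2, t2, h2⟩ := hgb
    refine Submodule.add_mem _ (Submodule.smul_mem _ _ ?_) (Submodule.smul_mem _ _ ?_)
    · rw [h1]; exact Submodule.mem_span_pair.2 ⟨_, _, rfl⟩
    · rw [h2]; exact Submodule.mem_span_pair.2 ⟨_, _, rfl⟩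

end Cfsg.Agent.Cover98.UnitaryFour
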