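import Cfsg.Agent.Cover98.Herm

/-!
`PSU₃` in characteristic three: the stabiliser of a non-isotropic point and the normaliser of a
torus of order `q² - q + 1` cover (helper61 for helper98, S2500).
-/

set_option autoImplicit false

namespace Cfsg.Agent.Cover98.UnitaryThree

open Polynomial Cfsg.Agent.Unitary Matrix Cfsg.Agent.Cover98.Herm

variable {F : Type*} [Field F] {q : ℕ}

local notation "V" => (Fin 3 → F)
local notation "G" => SU 3 F q

/-- The linear functional `x ↦ h(x, b)`. -/
def lf (q : ℕ) (b : V) : V →ₗ[F] F where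
  toFun x := herm q x b
  map_add' x y := herm_add_left x y b
  map_smul' a x := herm_smul_left a x b

theorem mem_ker_lf {b x : V} : x ∈ LinearMap.ker (lf q b) ↔ herm q x b = 0 := Iff.rfl

theorem two_le_ker_lf (b : V) : 2 ≤ Module.finrank F (LinearMap.ker (lf q b)) := by
  have h1 := LinearMap.finrank_range_add_finrank_ker (lf q b)
  have h2 := Submodule.finrank_le (LinearMap.range (lf q b))
  rw [Module.finrank_self] at h2
  rw [Module.finrank_fin_fun] at h1
  omega

/-- Regular unipotent elements. -/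
def Reg (g : G) : Prop := (op g - 1) ^ 3 = 0 ∧ (op g - 1) ^ 2 ≠ 0

/-- No eigenvector. -/
def NoEig (g : G) : Prop := ∀ v : V, v ≠ 0 → ∀ l : F, g • v ≠ l • v

variable [Fintype F] (hF : Fintype.card F = q ^ 2)
include hF

theorem op_inj {g h : G} (e : op g = op h) : g = h :=
  eq_of_smul_eq_SU fun v => by rw [← op_apply, e, op_apply]

theorem finite_SU : Finite G :=
  Finite.of_injective (fun g : G => (g.1 : Matrix (Fin 3) (Fin 3) F))
    fun a b h => Subtype.ext (Subtype.ext h)

theorem charThree {a : ℕ} (hq : q = 3 ^ a) : CharP F 3 := by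
  obtain ⟨p, k, hp, hk, hchar, hpk⟩ := exists_prime_pow hF
  have : p ∣ 3 ^ a := hq ▸ hpk ▸ dvd_pow_self p hk.ne'
  rwa [← (Nat.prime_dvd_prime_iff_eq hp Nat.prime_three).1 (hp.dvd_of_dvd_pow this)]

omit hF in
theorem det_op (g : G) : LinearMap.det (op g) = 1 := by
  show LinearMap.det (Matrix.toLin' (g.1 : Matrix (Fin 3) (Fin 3) F)) = 1
  rw [LinearMap.det_toLin']
  exact g.1.2

/-- An element without a nondegenerate eigenvector but with an eigenvector is regular unipotent. -/
theorem reg_of_eig [CharP F 3] {g : G} (hiso : ∀ (v : V) (l : F), g • v = l • v → herm q v v = 0)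
    {v : V} (hv0 : v ≠ 0) {l : F} (hgv : g • v = l • v) : Reg g := by
  have hvv := hiso v l hgv
  obtain ⟨w, -, -, hvw⟩ := exists_partner hF (S := (∅ : Finset (Fin 3))) (by simp [supp_empty])
    hvv hv0
  have hwv : herm q w v = 1 := herm_one_swap hF hvw
  have hl0 : l ≠ 0 := fun h => hv0 (MulAction.injective g
    (show g • v = g • (0 : V) by rw [hgv, h, zero_smul, smul_zero]))
  -- `v⊥`
  obtain ⟨u, huv, hun⟩ : ∃ u : V, herm q u v = 0 ∧ u ∉ F ∙ v := by
    have h : ¬ LinearMap.ker (lf q v) ≤ F ∙ v := fun hle => by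
      have h1 := Submodule.finrank_mono hle
      have h2 : Module.finrank F (F ∙ v) ≤ 1 := (finrank_span_le_card ({v} : Set V)).trans (by simp)
      have := two_le_ker_lf (q := q) v
      omega
    obtain ⟨u, hu, hun⟩ := SetLike.not_le_iff_exists.1 h
    exact ⟨u, hu, hun⟩
  have hvu : herm q v u = 0 := (herm_eq_zero_comm hF).1 huv
  have hspan : ∀ x : V, herm q x v = 0 → ∃ s t : F, x = s • u + t • v := by
    intro x hx
    have hle : Submodule.span F {u, v} ≤ LinearMap.ker (lf q v) := by
      rw [Submodule.span_le]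
      rintro y (rfl | rfl) <;> assumption
    have hlt : F ∙ v < Submodule.span F {u, v} := by
      refine lt_of_le_not_ge (Submodule.span_mono (by simp)) fun h => ?_
      exact hun (h (Submodule.subset_span (by simp)))
    have h1 := Submodule.finrank_lt_finrank_of_lt hlt
    rw [finrank_span_singleton hv0] at h1
    have hker : Module.finrank F (LinearMap.ker (lf q v)) < 3 := by
      have := Submodule.finrank_lt (s := LinearMap.ker (lf q v)) (by
        intro h
        have hw : w ∈ LinearMap.ker (lf q v) := h.symm ▸ Submodule.mem_top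
        rw [mem_ker_lf, hwv] at hw
        exact one_ne_zero hw)
      rwa [Module.finrank_fin_fun] at this
    have heq := Submodule.eq_of_le_of_finrank_le hle (by omega)
    have hx' : x ∈ Submodule.span F {u, v} := heq ▸ hx
    obtain ⟨s, t, h⟩ := Submodule.mem_span_pair.1 hx'
    exact ⟨s, t, h.symm⟩
  have huu : herm q u u ≠ 0 := by
    intro huu
    set z := u - herm q u w • v
    have hz : ∀ x : V, herm q z x = 0 := by
      intro x
      obtain ⟨s, t, hst⟩ := hspan (x - herm q x v • w) (by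
        rw [herm_sub_left, herm_smul_left, hwv, mul_one, sub_self])
      rw [show x = s • u + t • v + herm q x v • w by rw [← hst]; abel]
      simp only [z, herm_sub_left, herm_smul_left, herm_add_right hF, herm_smul_right hF, huu, huv,
        hvu, hvv, hvw, mul_zero, add_zero, zero_add, sub_zero, mul_one]
      ring
    have := eq_zero_of_herm hF hz
    exact hun (Submodule.mem_span_singleton.2 ⟨_, (sub_eq_zero.1 this).symm⟩)
  have hginv : g⁻¹ • v = l⁻¹ • v := by
    rw [inv_smul_eq_iff, smul_comm g, hgv, inv_smul_smul₀ hl0]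
  have hgperp : ∀ x : V, herm q (g • x) v = l⁻¹ ^ q * herm q x v := fun x => by
    rw [← herm_smul_SU g⁻¹, inv_smul_smul, hginv, herm_smul_right hF]
  obtain ⟨m, c, hgu⟩ := hspan (g • u) (by rw [hgperp, huv, mul_zero])
  have hm : m ^ (q + 1) = 1 := by
    have h := herm_smul_SU g u u
    simp only [hgu, herm_add_left, herm_add_right hF, herm_smul_left, herm_smul_right hF, huv,
      hvu, hvv, mul_zero, add_zero] at h
    rw [← mul_assoc] at h
    rw [pow_succ]
    exact mul_right_cancel₀ huu (by rw [one_mul]; exact h)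
  have hml : m = l := by
    by_contra hne
    have he : g • (u + (c / (m - l)) • v) = m • (u + (c / (m - l)) • v) := by
      rw [smul_add g, hgu, smul_comm g, hgv, smul_add, smul_smul, smul_smul, add_assoc, ← add_smul]
      congr 2
      field_simp [sub_ne_zero.2 hne]
      ring
    have := hiso _ m he
    simp [herm_add_left, herm_add_right hF, herm_smul_left, herm_smul_right hF, hvv, huv, hvu,
      huu] at this
  subst hml
  have hc0 : c ≠ 0 := by
    rintro rfl
    rw [zero_smul, add_zero] at hgu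
    exact huu (hiso u m hgu)
  have hlq : m⁻¹ ^ q = m := by
    rw [inv_pow]
    refine inv_eq_of_mul_eq_one_right ?_
    rw [← pow_succ]
    exact hm
  obtain ⟨α, β, hgw⟩ := hspan (g • w - m • w) (by
    rw [herm_sub_left, hgperp, herm_smul_left, hwv, hlq, mul_one, sub_self])
  set N : Module.End F V := op g - m • 1 with hN
  have hNv : N v = 0 := by simp [hN, op_apply, hgv]
  have hNu : N u = c • v := by simp [hN, op_apply, hgu]
  have hNw : N w = α • u + β • v := by simpa [hN, op_apply] using hgw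
  have hdec : ∀ x : V, ∃ r s t : F, x = r • w + (s • u + t • v) := by
    intro x
    obtain ⟨s, t, hst⟩ := hspan (x - herm q x v • w) (by
      rw [herm_sub_left, herm_smul_left, hwv, mul_one, sub_self])
    exact ⟨herm q x v, s, t, by rw [← hst]; abel⟩
  have hN3 : N ^ 3 = 0 := LinearMap.ext fun x => by
    obtain ⟨r, s, t, rfl⟩ := hdec x
    simp [pow_succ, map_add, map_smul, hNv, hNu, hNw]
  have hl1 : m = 1 := by
    have h1 : aeval (op g) ((X - C m) ^ 3) = 0 := by
      rw [map_pow, map_sub, aeval_X, aeval_C, Algebra.algebraMap_eq_smul_one]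
      exact hN3
    have e : ((X - C m) ^ 3 : F[X]) = X ^ 3 - C (m ^ 3) := by
      rw [sub_pow_char, map_pow]
    rw [e, map_sub, map_pow, aeval_X, aeval_C, Algebra.algebraMap_eq_smul_one, sub_eq_zero,
      ← op_pow] at h1
    have h2 := congrArg LinearMap.det h1
    rw [det_op, LinearMap.det_smul, map_one, mul_one, Module.finrank_fin_fun, ← pow_mul] at h2
    have h3 : (m - 1) ^ (3 ^ 2) = 0 := by
      rw [sub_pow_char_pow, one_pow, show (3 : ℕ) ^ 2 = 3 * 3 from rfl, ← h2, sub_self]
    exact sub_eq_zero.1 (pow_eq_zero_iff (by norm_num) |>.1 h3)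
  subst hl1
  refine ⟨by simpa [hN] using hN3, fun h2 => ?_⟩
  have h2' : (N ^ 2) w = 0 := by
    rw [show N = op g - 1 by simp [hN], h2, LinearMap.zero_apply]
  rw [sq, Module.End.mul_apply, hNw, map_add, map_smul, map_smul, hNu, hNv, smul_zero, add_zero,
    smul_smul, smul_eq_zero] at h2'
  have hα : α = 0 := ((mul_eq_zero.1 (h2'.resolve_right hv0)).resolve_right hc0)
  rw [hα, zero_smul, zero_add] at hNw
  have hfix : g • (w - (β / c) • u) = (1 : F) • (w - (β / c) • u) := by
    have : N (w - (β / c) • u) = 0 := by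
      rw [map_sub, map_smul, hNw, hNu, smul_smul, div_mul_cancel₀ _ hc0, sub_self]
    rw [one_smul]
    rw [hN, one_smul, LinearMap.sub_apply, Module.End.one_apply, sub_eq_zero] at this
    exact this
  have h0 := hiso _ 1 hfix
  have hz : ∀ a ∈ Module.End.eigenspace (op g) (1 : F), herm q a a = 0 := fun a ha => by
    refine hiso a 1 ?_
    rw [← op_apply]
    exact Module.End.mem_eigenspace_iff.1 ha
  have := isotropic_sub hF hz (Module.End.mem_eigenspace_iff.2 hfix)
    (Module.End.mem_eigenspace_iff.2 hgv)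
  rw [herm_sub_left, herm_smul_left, hwv, huv, mul_zero, sub_zero] at this
  exact one_ne_zero this

/-- A linear map with determinant one preserving the form comes from `SU`. -/
theorem exists_SU_op {T : Module.End F V} (hT : ∀ x y, herm q (T x) (T y) = herm q x y)
    (hd : LinearMap.det T = 1) : ∃ g : G, op g = T := by
  set M := LinearMap.toMatrix' T with hM
  have hMv : ∀ x, M *ᵥ x = T x := fun x => LinearMap.toMatrix'_mulVec T x
  let D := mkGU hF M (fun x y => by rw [hMv, hMv, hT])
  have hker : D ∈ (detGU : GU 3 F q →* Fˣ).ker := by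
    rw [MonoidHom.mem_ker]
    refine Units.ext ?_
    show M.det = 1
    rw [hM, LinearMap.det_toMatrix', hd]
  rw [← range_toGU] at hker
  obtain ⟨x, hx⟩ := hker
  refine ⟨x, LinearMap.ext fun v => ?_⟩
  rw [op_apply, ← toGU_smul, hx, mkGU_smul, hMv]

/-- An isometry intertwining two elements gives a conjugation in `SU`. -/
theorem exists_conj_of_isometry [CharP F 3] {g g' : G} {T : Module.End F V}
    (hT : ∀ x y, herm q (T x) (T y) = herm q x y) (hc : T * op g = op g' * T) :
    ∃ x : G, x * g * x⁻¹ = g' := by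
  set M := LinearMap.toMatrix' T with hM
  have hMv : ∀ x, M *ᵥ x = T x := fun x => LinearMap.toMatrix'_mulVec T x
  let D := mkGU hF M (fun x y => by rw [hMv, hMv, hT])
  have hn : (LinearMap.det T) ^ (q + 1) = 1 := by
    have := det_norm hF D
    rwa [show (detGU D : F) = M.det from rfl, hM, LinearMap.det_toMatrix'] at this
  have hne : LinearMap.det T ≠ 0 := fun h => by simp [h] at hn
  obtain ⟨d, hd⟩ := (Finite.injective_iff_surjective.1 (frobenius_inj F 3)) (LinearMap.det T)⁻¹
  rw [frobenius_def] at hd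
  have hdn : d ^ (q + 1) = 1 := by
    refine frobenius_inj F 3 ?_
    rw [frobenius_def, frobenius_def, one_pow, ← pow_mul, mul_comm, pow_mul, hd, inv_pow, hn,
      inv_one]
  obtain ⟨x, hx⟩ := exists_SU_op hF (T := d • T) (fun a b => by
      rw [LinearMap.smul_apply, LinearMap.smul_apply, herm_smul_left, herm_smul_right hF, hT,
        ← mul_assoc, ← pow_succ', hdn, one_mul]) (by
      rw [LinearMap.det_smul, Module.finrank_fin_fun, hd, inv_mul_cancel₀ hne])
  refine ⟨x, mul_inv_eq_iff_eq_mul.2 (op_inj hF ?_)⟩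
  rw [op_mul, op_mul, hx, smul_mul_assoc, hc, mul_smul_comm]

/-- A normalised cyclic vector of a regular unipotent. -/
theorem exists_normal {g : G} (hg : Reg g) {c₀ : F} (hc₀ : c₀ + c₀ ^ q = 1) :
    ∃ w y v : V, op g w = w + y ∧ op g y = y + v ∧ op g v = v ∧
      herm q w v = 1 ∧ herm q w y = c₀ ∧ herm q w w = 0 ∧
      herm q y y = -1 ∧ herm q y v = 0 ∧ herm q v v = 0 := by
  obtain ⟨h3, h2⟩ := hg
  set N := op g - 1 with hN
  obtain ⟨w₀, hw₀⟩ : ∃ w, (N ^ 2) w ≠ 0 := by
    by_contra! h
    exact h2 (LinearMap.ext h)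
  have hop : ∀ x, op g x = x + N x := fun x => by
    rw [hN, LinearMap.sub_apply, Module.End.one_apply]; abel
  have hiso : ∀ x y, herm q (x + N x) (y + N y) = herm q x y := fun x y => by
    rw [← hop, ← hop, op_apply, op_apply, herm_smul_SU]
  have h3' : ∀ x, N (N (N x)) = 0 := fun x => by
    have := LinearMap.congr_fun h3 x
    simpa [pow_succ] using this
  have rel : ∀ w, herm q (N (N w)) (N (N w)) = 0 ∧ herm q (N w) (N (N w)) = 0 ∧
      herm q (N w) (N w) = -herm q w (N (N w)) ∧
      herm q w (N w) + herm q w (N w) ^ q = -herm q (N w) (N w) := by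
    intro w
    have e1 := hiso w (N (N w))
    rw [h3', add_zero, herm_add_left, add_eq_left] at e1
    have e2 := hiso (N w) (N (N w))
    rw [h3', add_zero, herm_add_left, add_eq_left] at e2
    have e3 := hiso w (N w)
    rw [herm_add_left, herm_add_right hF, herm_add_right hF, e1] at e3
    have e4 := hiso w w
    rw [herm_add_left, herm_add_right hF, herm_add_right hF, herm_swap hF w (N w)] at e4
    refine ⟨e2, e1, ?_, ?_⟩
    · linear_combination e3
    · linear_combination e4
  obtain ⟨r1, r2, r3, -⟩ := rel w₀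
  set b := herm q w₀ (N (N w₀))
  have hbf : b ^ q = b := by
    have := herm_self_fixed hF (N w₀)
    rw [r3, neg_pow_q hF] at this
    exact neg_inj.1 this
  have hb0 : b ≠ 0 := by
    intro hb
    have hw : N (N w₀) ≠ 0 := by simpa [pow_succ] using hw₀
    refine hw (eq_zero_of_herm hF fun x => ?_)
    have li : LinearIndependent F ![w₀, N w₀, N (N w₀)] := by
      rw [Fintype.linearIndependent_iff]
      intro c hc
      rw [Fin.sum_univ_three] at hc
      simp only [Matrix.cons_val_zero, Matrix.cons_val_one, Matrix.cons_val_two,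
        Matrix.tail_cons, Matrix.head_cons] at hc
      have c0 : c 0 = 0 := by
        have := congrArg (fun x => N (N x)) hc
        simp only [map_add, map_smul, h3', map_zero, smul_zero, add_zero] at this
        exact (smul_eq_zero.1 this).resolve_right hw
      rw [c0, zero_smul, zero_add] at hc
      have c1 : c 1 = 0 := by
        have := congrArg N hc
        simp only [map_add, map_smul, h3', map_zero, smul_zero, add_zero] at this
        exact (smul_eq_zero.1 this).resolve_right hw
      rw [c1, zero_smul, zero_add] at hc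
      have c2 : c 2 = 0 := (smul_eq_zero.1 hc).resolve_right hw
      intro i
      fin_cases i <;> assumption
    have hspan : Submodule.span F (Set.range ![w₀, N w₀, N (N w₀)]) = ⊤ :=
      li.span_eq_top_of_card_eq_finrank (by simp)
    have hx : x ∈ Submodule.span F (Set.range ![w₀, N w₀, N (N w₀)]) := hspan ▸ Submodule.mem_top
    obtain ⟨c, rfl⟩ := (Submodule.mem_span_range_iff_exists_fun F).1 hx
    rw [Fin.sum_univ_three]
    simp only [Matrix.cons_val_zero, Matrix.cons_val_one, Matrix.cons_val_two,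
      Matrix.tail_cons, Matrix.head_cons]
    rw [herm_add_right hF, herm_add_right hF, herm_smul_right hF, herm_smul_right hF,
      herm_smul_right hF, r1, herm_swap hF w₀ (N (N w₀)), (herm_eq_zero_comm hF).1 r2]
    show c 0 ^ q * b ^ q + _ + _ = 0
    rw [hb, zero_pow_q hF, mul_zero, mul_zero, mul_zero, add_zero, add_zero]
  -- normalise `b`
  obtain ⟨s, hs⟩ := exists_norm_eq hF (t := b⁻¹) (by rw [inv_pow, hbf])
  obtain ⟨w₁, hw₁⟩ : ∃ w₁, w₁ = s • w₀ := ⟨_, rfl⟩
  have hb1 : herm q w₁ (N (N w₁)) = 1 := by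
    rw [hw₁, map_smul, map_smul, herm_smul_left, herm_smul_right hF, ← mul_assoc, ← pow_succ', hs,
      inv_mul_cancel₀ hb0]
  obtain ⟨-, r2, r3, r4⟩ := rel w₁
  rw [hb1] at r3
  rw [r3, neg_neg] at r4
  obtain ⟨δ, hδ⟩ := exists_sub_pow_eq hF (c := herm q w₁ (N w₁) - c₀) (by
    rw [sub_pow_q hF]; linear_combination r4 - hc₀)
  obtain ⟨w₂, hw₂⟩ : ∃ w₂, w₂ = w₁ + δ • N w₁ := ⟨_, rfl⟩
  obtain ⟨r1, r2', -, -⟩ := rel w₁
  have hNw₂ : N w₂ = N w₁ + δ • N (N w₁) := by rw [hw₂, map_add, map_smul]
  have hNNw₂ : N (N w₂) = N (N w₁) := by rw [hNw₂, map_add, map_smul, h3', smul_zero, add_zero]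
  have hb2 : herm q w₂ (N (N w₂)) = 1 := by
    rw [hNNw₂, hw₂, herm_add_left, herm_smul_left, r2', mul_zero, add_zero, hb1]
  have hc2 : herm q w₂ (N w₂) = c₀ := by
    rw [hNw₂, hw₂, herm_add_left, herm_add_right hF, herm_add_right hF, herm_smul_left,
      herm_smul_left, herm_smul_right hF, herm_smul_right hF, hb1, r3, r2']
    linear_combination -hδ
  obtain ⟨γ, hγ⟩ := exists_trace_eq hF (t := -herm q w₂ w₂)
    (by rw [neg_pow_q hF, herm_self_fixed hF])
  obtain ⟨w, hw⟩ : ∃ w, w = w₂ + γ • N (N w₂) := ⟨_, rfl⟩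
  obtain ⟨s1, s2, s3, -⟩ := rel w₂
  have hNw : N w = N w₂ := by rw [hw, map_add, map_smul, h3', smul_zero, add_zero]
  refine ⟨w, N w₂, N (N w₂), ?_, hop _, ?_, ?_, ?_, ?_, ?_, s2, s1⟩
  · rw [hop, hNw]
  · rw [hop, h3', add_zero]
  · rw [hw, herm_add_left, herm_smul_left, s1, mul_zero, add_zero, hb2]
  · rw [hw, herm_add_left, herm_smul_left, (herm_eq_zero_comm hF).1 s2, mul_zero, add_zero, hc2]
  · rw [hw, herm_add_left, herm_add_right hF, herm_add_right hF, herm_smul_left, herm_smul_left,
      herm_smul_right hF, herm_smul_right hF, s1, hb2, herm_one_swap hF hb2]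
    linear_combination hγ
  · rw [s3, hb2]

/-- Regular unipotents are conjugate. -/
theorem reg_conj [CharP F 3] {g g' : G} (hg : Reg g) (hg' : Reg g') :
    ∃ x : G, x * g * x⁻¹ = g' := by
  obtain ⟨c₀, hc₀⟩ := exists_trace_eq hF (t := (1 : F)) (one_pow q)
  obtain ⟨w, y, v, hw, hy, hv, a1, a2, a3, a4, a5, a6⟩ := exists_normal hF hg hc₀
  obtain ⟨w', y', v', hw', hy', hv', b1, b2, b3, b4, b5, b6⟩ := exists_normal hF hg' hc₀
  have li : LinearIndependent F ![w, y, v] := by
    rw [Fintype.linearIndependent_iff]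
    intro c hc
    rw [Fin.sum_univ_three] at hc
    simp only [Matrix.cons_val_zero, Matrix.cons_val_one, Matrix.cons_val_two,
      Matrix.tail_cons, Matrix.head_cons] at hc
    have e := fun z => congrArg (fun x => herm q x z) hc
    have c0 := e v
    simp only [herm_add_left, herm_smul_left, a1, a5, a6, mul_zero, add_zero, mul_one,
      herm_zero_left] at c0
    have c1 := e y
    simp only [herm_add_left, herm_smul_left, c0, a4, (herm_eq_zero_comm hF).1 a5, zero_mul,
      zero_add, mul_zero, add_zero, mul_neg, mul_one, herm_zero_left, neg_eq_zero] at c1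
    have c2 := e w
    simp only [herm_add_left, herm_smul_left, c0, c1, herm_one_swap hF a1, zero_mul, zero_add,
      mul_one, herm_zero_left] at c2
    intro i
    fin_cases i <;> assumption
  let B := basisOfLinearIndependentOfCardEqFinrank li (by simp)
  let T : Module.End F V := B.constr F ![w', y', v']
  have hB : ∀ i, B i = ![w, y, v] i := fun i => by simp [B]
  have hTw : T w = w' := by
    have := B.constr_basis F ![w', y', v'] 0; rwa [hB] at this
  have hTy : T y = y' := by
    have := B.constr_basis F ![w', y', v'] 1; rwa [hB] at this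
  have hTv : T v = v' := by
    have := B.constr_basis F ![w', y', v'] 2; rwa [hB] at this
  have hdec : ∀ x : V, ∃ r s t : F, x = r • w + s • y + t • v := fun x => by
    refine ⟨B.repr x 0, B.repr x 1, B.repr x 2, ?_⟩
    conv_lhs => rw [← B.sum_repr x, Fin.sum_univ_three, hB, hB, hB]
    rfl
  refine exists_conj_of_isometry hF (T := T) (fun x z => ?_) (LinearMap.ext fun x => ?_)
  · obtain ⟨r, s, t, rfl⟩ := hdec x
    obtain ⟨r', s', t', rfl⟩ := hdec z
    simp only [map_add, map_smul, hTw, hTy, hTv, herm_add_left, herm_add_right hF, herm_smul_left,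
      herm_smul_right hF, a1, a2, a3, a4, a5, a6, b1, b2, b3, b4, b5, b6, herm_one_swap hF a1,
      herm_one_swap hF b1, herm_swap hF w y, herm_swap hF w' y', (herm_eq_zero_comm hF).1 a5,
      (herm_eq_zero_comm hF).1 b5]
  · obtain ⟨r, s, t, rfl⟩ := hdec x
    simp only [Module.End.mul_apply, map_add, map_smul, hTw, hTy, hTv, hw, hy, hv, hw', hy', hv',
      smul_add]

/-! ### Elements without eigenvectors -/

omit hF in
theorem irreducible_charpoly {g : G} (hg : NoEig g) : Irreducible (op g).charpoly := by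
  refine Polynomial.irreducible_of_degree_le_three_of_not_isRoot ?_ fun a ha => ?_
  · rw [LinearMap.charpoly_natDegree, Module.finrank_fin_fun]; decide
  · obtain ⟨v, hv⟩ := ((Module.End.hasEigenvalue_iff_isRoot_charpoly _ a).2 ha).exists_hasEigenvector
    exact hg v hv.2 a (by rw [← op_apply]; exact hv.apply_eq_smul)

omit hF in
theorem minpoly_eq {g : G} (hg : NoEig g) : minpoly F (op g) = (op g).charpoly :=
  (minpoly.eq_of_irreducible_of_monic (irreducible_charpoly hg)
    (LinearMap.aeval_self_charpoly _) (LinearMap.charpoly_monic _)).symm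

omit hF in
theorem aeval_eq_zero_iff {g : G} (hg : NoEig g) {f : F[X]} :
    aeval (op g) f = 0 ↔ (op g).charpoly ∣ f := by
  rw [← minpoly_eq hg]
  exact ⟨minpoly.dvd F _, fun ⟨c, hc⟩ => by rw [hc, map_mul, minpoly.aeval, zero_mul]⟩

omit hF in
theorem aeval_injective {g : G} (hg : NoEig g) {f : F[X]} (hf : ¬ (op g).charpoly ∣ f) {x : V}
    (hx : aeval (op g) f x = 0) : x = 0 := by
  obtain ⟨a, b, hab⟩ := ((irreducible_charpoly hg).coprime_iff_not_dvd).2 hf
  have := congrArg (fun f : F[X] => aeval (op g) f x) hab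
  simpa [map_add, map_mul, hx, LinearMap.aeval_self_charpoly] using this.symm

/-- The cyclic basis. -/
theorem exists_cyclic_basis {g : G} (hg : NoEig g) :
    ∃ B : Module.Basis (Fin 3) F V, ∀ i : Fin 3, B i = (op g ^ (i : ℕ)) (eI 0) := by
  have e0 : (eI 0 : V) ≠ 0 := fun h => by simpa [eI] using congrFun h 0
  have li : LinearIndependent F fun i : Fin 3 => (op g ^ (i : ℕ)) (eI 0 : V) := by
    rw [Fintype.linearIndependent_iff]
    intro c hc
    set f : F[X] := ∑ i : Fin 3, C (c i) * X ^ (i : ℕ) with hf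
    have hfz : aeval (op g) f (eI 0) = 0 := by
      rw [← hc, hf, map_sum, LinearMap.sum_apply]
      exact Finset.sum_congr rfl fun i _ => by simp [Module.algebraMap_end_apply]
    have hf0 : f = 0 := by
      by_contra hne
      refine e0 (aeval_injective hg (fun hd => ?_) hfz)
      have := natDegree_le_of_dvd hd hne
      rw [LinearMap.charpoly_natDegree, Module.finrank_fin_fun] at this
      have h2 : f.natDegree ≤ 2 := natDegree_sum_le_of_forall_le _ _ fun i _ =>
        (natDegree_C_mul_X_pow_le _ _).trans (by omega)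
      omega
    intro i
    have := congrArg (fun p => coeff p (i : ℕ)) hf0
    simpa [hf, coeff_X_pow, Fin.val_inj, Finset.sum_ite_eq, Finset.sum_ite_eq'] using this
  exact ⟨basisOfLinearIndependentOfCardEqFinrank li (by simp), fun i => by simp⟩

/-- An endomorphism commuting with `g` is a polynomial in `g`. -/
theorem exists_aeval_eq {g : G} (hg : NoEig g) {T : Module.End F V} (hT : Commute T (op g)) :
    ∃ f : F[X], T = aeval (op g) f := by
  obtain ⟨B, hB⟩ := exists_cyclic_basis hF hg
  refine ⟨∑ i : Fin 3, C (B.repr (T (eI 0)) i) * X ^ (i : ℕ), B.ext fun j => ?_⟩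
  rw [hB, ← Module.End.mul_apply, (hT.pow_right _).eq, Module.End.mul_apply,
    ← Module.End.mul_apply (aeval (op g) _), show op g ^ (j : ℕ) = aeval (op g) (X ^ (j : ℕ) : F[X])
      by simp, ← map_mul, mul_comm, map_mul, Module.End.mul_apply]
  congr 1
  conv_lhs => rw [← B.sum_repr (T (eI 0))]
  rw [map_sum, LinearMap.sum_apply]
  exact Finset.sum_congr rfl fun i _ => by simp [hB, Module.algebraMap_end_apply]

/-- A plane fixed pointwise by `t` forces `t` to commute with `g` if it normalises `⟨g⟩`. -/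
theorem commute_of_fix_plane {g t : G} (hg : NoEig g)
    (ht : t ∈ Subgroup.normalizer ((Subgroup.zpowers g : Subgroup G) : Set G))
    (hP : 2 ≤ Module.finrank F (LinearMap.ker (op t - 1))) : Commute t g := by
  haveI := finite_SU hF
  set P := LinearMap.ker (op t - 1)
  have hfix : ∀ w ∈ P, t • w = w := fun w hw => by
    have h : (op t - 1) w = 0 := hw
    rwa [LinearMap.sub_apply, Module.End.one_apply, sub_eq_zero, op_apply] at h
  obtain ⟨j, hj⟩ : t * g * t⁻¹ ∈ Submonoid.powers g := mem_powers_iff_mem_zpowers.2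
    ((Subgroup.mem_normalizer_iff.1 ht g).1 (Subgroup.mem_zpowers g))
  have hinj : Function.Injective (op g) := fun a b e => MulAction.injective g e
  have h1 : Module.finrank F (P.map (op g)) = Module.finrank F P :=
    (LinearEquiv.finrank_eq (Submodule.equivMapOfInjective (op g) hinj P)).symm
  have h2 := Submodule.finrank_sup_add_finrank_inf_eq P (P.map (op g))
  have h3 : Module.finrank F ↥(P ⊔ P.map (op g)) ≤ 3 :=
    (Submodule.finrank_le _).trans (Module.finrank_fin_fun F).le
  obtain ⟨x, hx, hx0⟩ := (Submodule.ne_bot_iff _).1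
    (show P ⊓ P.map (op g) ≠ ⊥ from fun h => by rw [h, finrank_bot] at h2; omega)
  obtain ⟨hxP, w, hwP, rfl⟩ := hx
  have hw0 : w ≠ 0 := fun h => hx0 (by rw [h, map_zero])
  have hgw : aeval (op g) (X ^ j - X : F[X]) w = 0 := by
    rw [map_sub, map_pow, aeval_X, LinearMap.sub_apply, ← op_pow, op_apply, sub_eq_zero]
    rw [show g ^ j = t * g * t⁻¹ from hj, mul_smul, mul_smul,
      inv_smul_eq_iff.2 (hfix w hwP).symm]
    have := hfix _ hxP
    rwa [op_apply] at this
  have hd : (op g).charpoly ∣ X ^ j - X := by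
    by_contra hd
    exact hw0 (aeval_injective hg hd hgw)
  have := (aeval_eq_zero_iff hg).2 hd
  rw [map_sub, map_pow, aeval_X, sub_eq_zero, ← op_pow] at this
  exact mul_inv_eq_iff_eq_mul.1 (hj.symm.trans (op_inj hF this))

/-- `f^σ (X^{q³}) = f^{q³}`. -/
theorem conj_comp_pow [CharP F 3] {a : ℕ} (hq : q = 3 ^ a) (f : F[X]) :
    (f.map (conjHom hF)).comp (X ^ q ^ 3) = f ^ q ^ 3 := by
  induction f using Polynomial.induction_on' with
  | add f f' hf hf' =>
    rw [Polynomial.map_add, add_comp, hf, hf', hq, ← pow_mul 3 a 3, add_pow_char_pow]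
  | monomial k c =>
    rw [Polynomial.map_monomial, ← C_mul_X_pow_eq_monomial, ← C_mul_X_pow_eq_monomial, mul_comp,
      C_comp, pow_comp, X_comp, mul_pow, ← C_pow, ← pow_mul, ← pow_mul, mul_comm k,
      conjHom_apply, show q ^ 3 = q * q * q by ring, pow_mul c, pow_mul c, pow_q_pow_q hF]

/-- Such an element has order dividing `q³ + 1`. -/
theorem dvd_pow_q3 {g : G} (hg : NoEig g) :
    (op g).charpoly ∣ X ^ (q ^ 3 + 1) - 1 := by
  haveI := finite_SU hF
  set p := (op g).charpoly with hpdef
  have hp := irreducible_charpoly hg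
  have hd : p.natDegree = 3 := by
    rw [hpdef, LinearMap.charpoly_natDegree, Module.finrank_fin_fun]
  set s : F[X] := X ^ (orderOf g - 1) with hs'
  have hinv : op g⁻¹ = aeval (op g) s := by
    rw [hs', map_pow, aeval_X, ← op_pow]
    congr 1
    refine inv_eq_of_mul_eq_one_right ?_
    rw [← pow_succ', Nat.sub_add_cancel (orderOf_pos g), pow_orderOf_eq_one]
  have h1 : p ∣ X * s - 1 := (aeval_eq_zero_iff hg).1 (by
    rw [map_sub, map_mul, aeval_X, map_one, ← hinv, ← op_mul, mul_inv_cancel, op_one, sub_self])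
  have h2 : p ∣ (p.map (conjHom hF)).comp s := (aeval_eq_zero_iff hg).1 (LinearMap.ext fun y => by
    refine eq_zero_of_herm hF fun x => ?_
    rw [aeval_comp, ← hinv, herm_eq_zero_comm hF, ← herm_aeval hF,
      LinearMap.aeval_self_charpoly, LinearMap.zero_apply, herm_zero_left])
  haveI := Fact.mk hp
  haveI : Module.Finite F (AdjoinRoot p) := (AdjoinRoot.powerBasis hp.ne_zero).finite
  haveI : Finite (AdjoinRoot p) := Module.finite_of_finite F
  set K := AdjoinRoot p
  set μ : K := AdjoinRoot.root p with hμ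
  obtain ⟨c, k, hc, -, hchar, hq⟩ := exists_prime_pow hF
  haveI := hchar
  haveI : Fact c.Prime := ⟨hc⟩
  haveI : CharP K c := charP_of_injective_algebraMap (algebraMap F K).injective c
  let φ : K →+* K := iterateFrobenius K c k
  have hφ : ∀ x : K, φ x = x ^ q := fun x => by rw [iterateFrobenius_def, hq]
  have hsμ : μ * aeval μ s = 1 := by
    have : aeval μ (X * s - 1) = 0 := by rw [AdjoinRoot.aeval_eq]; exact AdjoinRoot.mk_eq_zero.2 h1
    rwa [map_sub, map_mul, aeval_X, map_one, sub_eq_zero] at this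
  have hs : aeval μ s = μ⁻¹ := eq_inv_of_mul_eq_one_right hsμ
  have hν : aeval ((μ⁻¹) ^ q) p = 0 := by
    have h3 : aeval μ⁻¹ (p.map (conjHom hF)) = 0 := by
      rw [← hs, ← aeval_comp, AdjoinRoot.aeval_eq]
      exact AdjoinRoot.mk_eq_zero.2 h2
    have h4 := congrArg φ h3
    rw [map_zero, aeval_def, hom_eval₂, hφ, eval₂_map] at h4
    have e : (φ.comp (algebraMap F K)).comp (conjHom hF) = algebraMap F K := by
      refine RingHom.ext fun a => ?_
      show φ (algebraMap F K (conjHom hF a)) = algebraMap F K a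
      rw [hφ, ← map_pow, conjHom_apply, pow_q_pow_q hF]
    rw [e] at h4
    rw [aeval_def]
    exact h4
  let ρ : K →ₐ[F] K := AdjoinRoot.liftAlgHom p (Algebra.ofId F K) ((μ⁻¹) ^ q) hν
  obtain ⟨⟨i, hi3⟩, hi : FiniteField.frobeniusAlgHom F K ^ i = ρ⟩ :=
    (FiniteField.bijective_frobeniusAlgHom_pow F K).2 ρ
  have hfin : Module.finrank F K = 3 := by
    rw [(AdjoinRoot.powerBasis hp.ne_zero).finrank, AdjoinRoot.powerBasis_dim, hd]
  rw [hfin] at hi3
  have hpow : ∀ j : ℕ, (FiniteField.frobeniusAlgHom F K ^ j) μ = μ ^ (Fintype.card F ^ j) := by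
    intro j
    induction j with
    | zero => simp
    | succ j ih =>
      rw [pow_succ', AlgHom.mul_apply, ih, pow_succ, pow_mul]
      rfl
  have hμi : μ ^ (Fintype.card F ^ i) = (μ⁻¹) ^ q := by
    rw [← hpow, hi]
    exact AdjoinRoot.liftAlgHom_root _ _ _ hν
  have key : μ ^ (Fintype.card F ^ (i + i)) = μ ^ (Fintype.card F ^ 1) := by
    calc μ ^ (Fintype.card F ^ (i + i)) = (μ ^ (Fintype.card F ^ i)) ^ (Fintype.card F ^ i) := by
          rw [← pow_mul, pow_add]
      _ = ((μ ^ (Fintype.card F ^ i))⁻¹) ^ q := by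
          rw [hμi, ← pow_mul, mul_comm, pow_mul, inv_pow, hμi]
      _ = μ ^ (Fintype.card F ^ 1) := by
          rw [hμi, ← inv_pow, inv_inv, ← pow_mul, pow_one, hF, sq]
  rw [← hpow, ← hpow] at key
  have hext : FiniteField.frobeniusAlgHom F K ^ (i + i) = FiniteField.frobeniusAlgHom F K ^ 1 :=
    AdjoinRoot.algHom_ext key
  rw [← pow_mod_orderOf _ (i + i), ← pow_mod_orderOf _ 1,
    FiniteField.orderOf_frobeniusAlgHom, hfin] at hext
  have heq : (i + i) % 3 = 1 % 3 :=
    congrArg Fin.val ((FiniteField.bijective_frobeniusAlgHom_pow F K).1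
      (a₁ := ⟨(i + i) % 3, by rw [hfin]; exact Nat.mod_lt _ (by norm_num)⟩)
      (a₂ := ⟨1 % 3, by rw [hfin]; exact Nat.mod_lt _ (by norm_num)⟩) hext)
  obtain rfl : i = 2 := by omega
  rw [hF, show (q ^ 2) ^ 2 = q ^ 3 * q by ring, pow_mul, ← hφ, ← hφ] at hμi
  have hfinal : μ ^ (q ^ 3 + 1) = 1 := by
    rw [pow_succ', φ.injective hμi, ← hs]
    exact hsμ
  rw [← AdjoinRoot.mk_eq_zero, map_sub, map_pow, AdjoinRoot.mk_X, map_one, hfinal, sub_self]

/-- The adjoint of `f(g)` is `f(g)^{q³}`. -/
theorem herm_aeval' [CharP F 3] {a : ℕ} (hq : q = 3 ^ a) {g : G} (hg : NoEig g) (f : F[X])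
    (x y : V) : herm q (aeval (op g) f x) y = herm q x (aeval (op g) (f ^ q ^ 3) y) := by
  have h := (aeval_eq_zero_iff hg).2 (dvd_pow_q3 hF hg)
  rw [map_sub, map_pow, aeval_X, map_one, sub_eq_zero, pow_succ', ← op_pow, ← op_mul] at h
  rw [herm_aeval hF, inv_eq_of_mul_eq_one_right (op_inj hF (h.trans op_one.symm)),
    ← conj_comp_pow hF hq f, aeval_comp, map_pow, aeval_X, op_pow]

/-- In the torus, `q³`-fixed elements are norms. -/
theorem exists_norm_root {p f : F[X]} (hp : Irreducible p) (hd : p.natDegree = 3)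
    (hf0 : ¬ p ∣ f) (hf : p ∣ f ^ q ^ 3 - f) : ∃ c : F[X], p ∣ f * c ^ (q ^ 3 + 1) - 1 := by
  haveI := Fact.mk hp
  haveI : Module.Finite F (AdjoinRoot p) := (AdjoinRoot.powerBasis hp.ne_zero).finite
  haveI : Finite (AdjoinRoot p) := Module.finite_of_finite F
  set K := AdjoinRoot p
  set α : K := AdjoinRoot.mk p f
  have hα0 : α ≠ 0 := fun h => hf0 (AdjoinRoot.mk_eq_zero.1 h)
  have hα : α ^ q ^ 3 = α := by
    have := AdjoinRoot.mk_eq_zero.2 hf
    rwa [map_sub, map_pow, sub_eq_zero] at this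
  have hcard : Nat.card Kˣ = (q ^ 3) ^ 2 - 1 := by
    have hK : Nat.card K = (q ^ 3) ^ 2 := by
      rw [Module.natCard_eq_pow_finrank (K := F), (AdjoinRoot.powerBasis hp.ne_zero).finrank,
        AdjoinRoot.powerBasis_dim, hd, Nat.card_eq_fintype_card, hF]
      ring
    rw [Nat.card_units, hK]
  obtain ⟨ζ, hζ⟩ := IsCyclic.exists_monoid_generator (α := Kˣ)
  obtain ⟨k, hk⟩ := hζ (Units.mk0 α hα0)
  have ho : orderOf ζ = Nat.card Kˣ := by
    refine orderOf_eq_card_of_forall_mem_zpowers fun u => ?_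
    obtain ⟨j, rfl⟩ := hζ u
    exact Subgroup.npow_mem_zpowers ζ j
  have h1 : 1 ≤ q ^ 3 := Nat.one_le_pow _ _ (q_pos hF)
  have hdiv : orderOf ζ ∣ k * (q ^ 3 - 1) := by
    refine orderOf_dvd_iff_pow_eq_one.2 (Units.ext ?_)
    rw [pow_mul, show ζ ^ k = Units.mk0 α hα0 from hk, Units.val_pow_eq_pow_val, Units.val_mk0,
      Units.val_one]
    refine mul_right_cancel₀ hα0 ?_
    rw [← pow_succ, Nat.sub_add_cancel h1, hα, one_mul]
  rw [ho, hcard, show (q ^ 3) ^ 2 - 1 = (q ^ 3 + 1) * (q ^ 3 - 1) by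
    rw [← Nat.sq_sub_sq, one_pow]] at hdiv
  obtain ⟨i, rfl⟩ : q ^ 3 + 1 ∣ k := Nat.dvd_of_mul_dvd_mul_right
    (Nat.sub_pos_of_lt (Nat.one_lt_pow (by norm_num) (two_le_q hF))) hdiv
  obtain ⟨c, hc⟩ := AdjoinRoot.mk_surjective ((((ζ ^ i)⁻¹ : Kˣ) : K))
  refine ⟨c, AdjoinRoot.mk_eq_zero.1 ?_⟩
  rw [map_sub, map_mul, map_pow, map_one, hc, sub_eq_zero]
  show α * _ = 1
  rw [show α = ((ζ ^ ((q ^ 3 + 1) * i) : Kˣ) : K) by rw [show ζ ^ _ = _ from hk]; rfl,
    ← Units.val_pow_eq_pow_val, ← Units.val_mul, inv_pow, ← pow_mul, mul_comm i, mul_inv_cancel,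
    Units.val_one]

/-- Two elements without eigenvectors and with one characteristic polynomial are conjugate. -/
theorem noEig_conj [CharP F 3] {a : ℕ} (hq : q = 3 ^ a) {g g' : G} (hg : NoEig g)
    (hg' : NoEig g') (hp : (op g').charpoly = (op g).charpoly) :
    ∃ x : G, x * g * x⁻¹ = g' := by
  obtain ⟨B, hB⟩ := exists_cyclic_basis hF hg
  obtain ⟨B', hB'⟩ := exists_cyclic_basis hF hg'
  let φ : V ≃ₗ[F] V := B.equiv B' (Equiv.refl _)
  have hφB : ∀ i, φ (B i) = B' i := fun i => Module.Basis.equiv_apply ..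
  have hφf : ∀ f : F[X], φ (aeval (op g) f (eI 0)) = aeval (op g') f (eI 0) := by
    intro f
    set r := f %ₘ (op g).charpoly
    have hm := LinearMap.charpoly_monic (op g)
    have e1 : aeval (op g) f = aeval (op g) r := by
      conv_lhs => rw [← modByMonic_add_div f (op g).charpoly]
      rw [map_add, map_mul, LinearMap.aeval_self_charpoly, zero_mul, add_zero]
    have e2 : aeval (op g') f = aeval (op g') r := by
      conv_lhs => rw [← modByMonic_add_div f (op g).charpoly]
      rw [map_add, map_mul, ← hp, LinearMap.aeval_self_charpoly, zero_mul, add_zero, hp]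
    have hr : r.natDegree < 3 := by
      have := natDegree_modByMonic_lt f hm (fun h => by
        have h3 := congrArg natDegree h
        rw [LinearMap.charpoly_natDegree, Module.finrank_fin_fun, natDegree_one] at h3
        omega)
      rwa [LinearMap.charpoly_natDegree, Module.finrank_fin_fun] at this
    rw [e1, e2, aeval_eq_sum_range' hr, aeval_eq_sum_range' hr, LinearMap.sum_apply,
      LinearMap.sum_apply, map_sum, Finset.sum_range, Finset.sum_range]
    exact Finset.sum_congr rfl fun i _ => by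
      rw [LinearMap.smul_apply, LinearMap.smul_apply, map_smul, ← hB, hφB, hB']
  set T : Module.End F V := φ.toLinearMap with hT
  have hTc : T * op g = op g' * T := B.ext fun i => by
    rw [Module.End.mul_apply, Module.End.mul_apply, hB, ← Module.End.mul_apply (op g),
      ← pow_succ']
    show φ _ = op g' (φ _)
    have e1 := hφf (X ^ ((i : ℕ) + 1))
    have e2 := hφf (X ^ (i : ℕ))
    simp only [map_pow, aeval_X] at e1 e2
    rw [e1, e2, pow_succ', Module.End.mul_apply]
  let A : Module.End F V :=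
    { toFun := fun x i => herm q (T x) (T (eI i))
      map_add' := fun x y => funext fun i => by simp [map_add, herm_add_left]
      map_smul' := fun c x => funext fun i => by simp [map_smul, herm_smul_left] }
  have hA : ∀ x y, herm q (A x) y = herm q (T x) (T y) := by
    intro x y
    conv_rhs => rw [eq_sum_eI y, map_sum]
    show hermForm 3 F q (A x) y = _
    unfold hermForm
    rw [Fin.sum_univ_three, Fin.sum_univ_three]
    simp only [map_smul, herm_add_right hF, herm_smul_right hF]
    show herm q (T x) (T (eI 0)) * _ + herm q (T x) (T (eI 1)) * _ +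
      herm q (T x) (T (eI 2)) * _ = _
    ring
  have hTiso : ∀ x y, herm q (T (op g x)) (T (op g y)) = herm q (T x) (T y) := fun x y => by
    rw [← Module.End.mul_apply, ← Module.End.mul_apply T (op g) y, hTc, Module.End.mul_apply,
      Module.End.mul_apply, op_apply, op_apply, herm_smul_SU]
  have hAc : Commute A (op g) := LinearMap.ext fun x => by
    refine sub_eq_zero.1 (eq_zero_of_herm hF fun z => ?_)
    obtain ⟨y, rfl⟩ : ∃ y, op g y = z := ⟨g⁻¹ • z, by rw [op_apply, smul_inv_smul]⟩
    rw [herm_sub_left, Module.End.mul_apply, Module.End.mul_apply, hA, hTiso, op_apply, op_apply,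
      herm_smul_SU, hA, sub_self]
  obtain ⟨f, hf⟩ := exists_aeval_eq hF hg hAc
  have hf0 : ¬ (op g).charpoly ∣ f := fun hd => by
    have h0 : A = 0 := hf.trans ((aeval_eq_zero_iff hg).2 hd)
    have h1 : T (eI 0 : V) = 0 := eq_zero_of_herm hF fun z => by
      obtain ⟨y, rfl⟩ := φ.surjective z
      show herm q (T _) (T y) = 0
      rw [← hA, h0, LinearMap.zero_apply, herm_zero_left]
    have := φ.injective (h1.trans (map_zero φ).symm)
    simpa [eI] using congrFun this 0
  have hfix : (op g).charpoly ∣ f ^ q ^ 3 - f := (aeval_eq_zero_iff hg).1 (LinearMap.ext fun y => by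
    refine eq_zero_of_herm hF fun x => ?_
    rw [herm_eq_zero_comm hF, map_sub, LinearMap.sub_apply, herm_sub_right hF,
      ← herm_aeval' hF hq hg, ← hf, herm_swap hF (A y) x, hA, hA, ← herm_swap hF, sub_self])
  obtain ⟨c, hc⟩ := exists_norm_root hF (irreducible_charpoly hg)
    (by rw [LinearMap.charpoly_natDegree, Module.finrank_fin_fun]) hf0 hfix
  refine exists_conj_of_isometry hF (T := T * aeval (op g) c) (fun x y => ?_) ?_
  · have h1 := (aeval_eq_zero_iff hg).2 hc
    rw [map_sub, map_one, sub_eq_zero, pow_succ, ← mul_assoc, mul_comm f, mul_assoc] at h1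
    rw [Module.End.mul_apply, Module.End.mul_apply, ← hA, hf,
      ← Module.End.mul_apply (aeval (op g) f), ← map_mul, herm_swap hF,
      herm_aeval' hF hq hg, ← Module.End.mul_apply, ← map_mul, h1, Module.End.one_apply,
      ← herm_swap hF]
  · have e : aeval (op g) c * op g = op g * aeval (op g) c := by
      simpa using congrArg (aeval (op g)) (mul_comm c (X : F[X]))
    rw [mul_assoc, e, ← mul_assoc, hTc, mul_assoc]

/-- Powers of the Frobenius moving a root. -/
theorem three_dvd_of_dvd {p : F[X]} (hp : Irreducible p) (hd : p.natDegree = 3) {j : ℕ}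
    (h : p ∣ X ^ Fintype.card F ^ j - X) : 3 ∣ j := by
  haveI := Fact.mk hp
  haveI : Module.Finite F (AdjoinRoot p) := (AdjoinRoot.powerBasis hp.ne_zero).finite
  haveI : Finite (AdjoinRoot p) := Module.finite_of_finite F
  set K := AdjoinRoot p
  have hfin : Module.finrank F K = 3 := by
    rw [(AdjoinRoot.powerBasis hp.ne_zero).finrank, AdjoinRoot.powerBasis_dim, hd]
  have hpow : ∀ i : ℕ, (FiniteField.frobeniusAlgHom F K ^ i) (AdjoinRoot.root p) =
      AdjoinRoot.root p ^ (Fintype.card F ^ i) := by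
    intro i
    induction i with
    | zero => simp
    | succ i ih =>
      rw [pow_succ', AlgHom.mul_apply, ih, pow_succ, pow_mul]
      rfl
  rw [← hfin, ← FiniteField.orderOf_frobeniusAlgHom F K]
  refine orderOf_dvd_of_pow_eq_one (AdjoinRoot.algHom_ext ?_)
  rw [hpow, AlgHom.one_apply]
  have := AdjoinRoot.mk_eq_zero.2 h
  rwa [map_sub, map_pow, AdjoinRoot.mk_X, sub_eq_zero] at this

omit hF in
theorem noEig_of_aeval {g : G} {p : F[X]} (hp : Irreducible p) (hm : p.Monic)
    (hd : p.natDegree = 3) (h : aeval (op g) p = 0) : NoEig g ∧ (op g).charpoly = p := by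
  have hmin := minpoly.eq_of_irreducible_of_monic hp h hm
  have hdv : p ∣ (op g).charpoly := hmin ▸ LinearMap.minpoly_dvd_charpoly (op g)
  have hcp : (op g).charpoly = p := (Polynomial.eq_of_monic_of_associated hm
    (LinearMap.charpoly_monic _) (associated_of_dvd_of_natDegree_le hdv
      (LinearMap.charpoly_monic _).ne_zero
      (by rw [LinearMap.charpoly_natDegree, Module.finrank_fin_fun, hd]))).symm
  refine ⟨fun v hv l hl => ?_, hcp⟩
  have hr := (Module.End.hasEigenvalue_iff_isRoot_charpoly (op g) l).1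
    (Module.End.hasEigenvalue_of_hasEigenvector
      ⟨Module.End.mem_eigenspace_iff.2 (by rw [op_apply]; exact hl), hv⟩)
  rw [hcp] at hr
  have := degree_eq_one_of_irreducible_of_root hp hr
  rw [degree_eq_natDegree hp.ne_zero, hd] at this
  norm_cast at this

/-- Every element without eigenvectors is conjugate into the normaliser of `⟨g⟩`. -/
theorem noEig_into [CharP F 3] {a : ℕ} (hq : q = 3 ^ a) {g₀ g : G} (hg₀ : NoEig g₀)
    (hg : NoEig g) :
    ∃ x : G, x * g * x⁻¹ ∈ Subgroup.normalizer ((Subgroup.zpowers g₀ : Subgroup G) : Set G) := by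
  set p₀ := (op g₀).charpoly with hp₀
  have hd₀ : p₀.natDegree = 3 := by rw [hp₀, LinearMap.charpoly_natDegree, Module.finrank_fin_fun]
  have hd : (op g).charpoly.natDegree = 3 := by
    rw [LinearMap.charpoly_natDegree, Module.finrank_fin_fun]
  obtain ⟨s, hs⟩ := exists_root_mod (irreducible_charpoly hg₀) (irreducible_charpoly hg)
    (dvd_of_eq (hd₀.trans hd.symm))
  set T := aeval (op g) s with hT
  have hT0 : aeval T p₀ = 0 := by rw [hT, ← aeval_comp]; exact (aeval_eq_zero_iff hg).2 hs
  have hT1 : T ^ (q ^ 3 + 1) = 1 := by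
    have := aeval_comp_eq_zero (dvd_pow_q3 hF hg₀) hT0
    rwa [map_sub, map_pow, aeval_X, map_one, sub_eq_zero] at this
  have hcp : T.charpoly = p₀ := by
    have hmin := minpoly.eq_of_irreducible_of_monic (irreducible_charpoly hg₀) hT0
      (LinearMap.charpoly_monic _)
    exact (Polynomial.eq_of_monic_of_associated (LinearMap.charpoly_monic _)
      (LinearMap.charpoly_monic _) (associated_of_dvd_of_natDegree_le
        (hmin ▸ LinearMap.minpoly_dvd_charpoly T) (LinearMap.charpoly_monic _).ne_zero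
        (by rw [LinearMap.charpoly_natDegree, Module.finrank_fin_fun, hd₀]))).symm
  have hdet : LinearMap.det T = 1 := by
    have e : ∀ S : Module.End F V, LinearMap.det S = (-1) ^ 3 * S.charpoly.coeff 0 := fun S => by
      have h := Matrix.det_eq_sign_charpoly_coeff (LinearMap.toMatrix' S)
      rwa [LinearMap.det_toMatrix', Fintype.card_fin, ← Matrix.charpoly_toLin',
        Matrix.toLin'_toMatrix'] at h
    rw [e, hcp, hp₀, ← e, det_op]
  obtain ⟨g', hg'⟩ := exists_SU_op hF (T := T) (fun x y => by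
    rw [hT, herm_aeval' hF hq hg, map_pow, ← hT, ← Module.End.mul_apply, ← pow_succ, hT1,
      Module.End.one_apply]) hdet
  obtain ⟨h', hp'⟩ := noEig_of_aeval (g := g') (irreducible_charpoly hg₀)
    (LinearMap.charpoly_monic _) hd₀ (by rw [hg']; exact hT0)
  obtain ⟨x, hx⟩ := noEig_conj hF hq h' hg₀ hp'.symm
  have hc : Commute g g' := op_inj hF (by
    rw [op_mul, op_mul, hg', hT]
    simpa using congrArg (aeval (op g)) (mul_comm (X : F[X]) s))
  refine ⟨x, ?_⟩
  have hc' : Commute (x * g * x⁻¹) g₀ := by rw [← hx]; exact hc.conj x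
  refine Subgroup.centralizer_le_normalizer _ (Subgroup.mem_centralizer_iff.2 fun y hy => ?_)
  obtain ⟨i, rfl⟩ := Subgroup.mem_zpowers_iff.1 hy
  exact (hc'.zpow_right i).eq.symm

/-- The normaliser of the torus contains a regular unipotent element. -/
theorem exists_reg [CharP F 3] {a : ℕ} (hq : q = 3 ^ a) {g₀ : G} (hg₀ : NoEig g₀) :
    ∃ u ∈ Subgroup.normalizer ((Subgroup.zpowers g₀ : Subgroup G) : Set G), Reg u := by
  haveI := finite_SU hF
  set p₀ := (op g₀).charpoly with hp₀
  have hd₀ : p₀.natDegree = 3 := by rw [hp₀, LinearMap.charpoly_natDegree, Module.finrank_fin_fun]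
  set Q := Fintype.card F
  obtain ⟨h1, hcp⟩ := noEig_of_aeval (g := g₀ ^ Q) (irreducible_charpoly hg₀)
    (LinearMap.charpoly_monic _) hd₀ (by
      rw [op_pow, show op g₀ ^ Q = aeval (op g₀) (X ^ Q ^ 1 : F[X]) by simp, ← aeval_comp,
        comp_X_pow_card, map_pow, LinearMap.aeval_self_charpoly, zero_pow]
      exact pow_ne_zero _ Fintype.card_pos.ne')
  obtain ⟨k, hk⟩ := noEig_conj hF hq hg₀ h1 hcp
  have hkj : ∀ j : ℕ, k ^ j * g₀ * (k ^ j)⁻¹ = g₀ ^ Q ^ j := by
    intro j
    induction j with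
    | zero => simp
    | succ j ih =>
      rw [pow_succ k, _root_.mul_inv_rev, show k ^ j * k * g₀ * (k⁻¹ * (k ^ j)⁻¹) =
        k ^ j * (k * g₀ * k⁻¹) * (k ^ j)⁻¹ by group, hk, ← conj_pow, ih, ← pow_mul, ← pow_succ]
  have hnotcomm : ∀ j : ℕ, Commute (k ^ j) g₀ → 3 ∣ j := by
    intro j hc
    refine three_dvd_of_dvd hF (irreducible_charpoly hg₀) hd₀ ((aeval_eq_zero_iff hg₀).1 ?_)
    have := hkj j
    rw [hc.eq, mul_inv_cancel_right] at this
    rw [map_sub, map_pow, aeval_X, ← op_pow, ← this, sub_self]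
  obtain ⟨e, m, hm, hord⟩ := Nat.exists_eq_pow_mul_and_not_dvd (orderOf_pos k).ne' 3 (by norm_num)
  set u := k ^ m with hu
  have hnc : ¬ Commute u g₀ := fun hc => hm (hnotcomm m hc)
  have hmem : u ∈ Subgroup.normalizer ((Subgroup.zpowers g₀ : Subgroup G) : Set G) := by
    refine (Subgroup.le_normalizer_iff (H := Subgroup.zpowers u)).2 (fun h hh y hy => ?_)
      (Subgroup.mem_zpowers u)
    obtain ⟨j, rfl⟩ : h ∈ Submonoid.powers u := mem_powers_iff_mem_zpowers.2 hh
    obtain ⟨i, rfl⟩ := Subgroup.mem_zpowers_iff.1 hy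
    show u ^ j * g₀ ^ i * (u ^ j)⁻¹ ∈ Subgroup.zpowers g₀
    rw [← conj_zpow, hu, ← pow_mul, hkj]
    exact Subgroup.zpow_mem _ (Subgroup.npow_mem_zpowers _ _) i
  have h3 : u ^ 3 = 1 := by
    have hc : Commute (u ^ 3) g₀ := by
      have h := hkj (m * 3)
      rw [← pow_mul] at *
      refine mul_inv_eq_iff_eq_mul.1 (h.trans (op_inj hF ?_))
      rw [op_pow]
      have hd : p₀ ∣ X ^ Q ^ (m * 3) - X := by
        refine dvd_trans (dvd_pow_q3 hF hg₀) ?_
        have hmod : (Q ^ (m * 3) : ℕ) ≡ 1 [MOD q ^ 3 + 1] := by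
          have h1 : (q ^ 3) ^ 2 ≡ 1 [MOD q ^ 3 + 1] := by
            refine (Nat.modEq_iff_dvd' (Nat.one_le_pow _ _ (Nat.one_le_pow _ _ (q_pos hF)))).2 ?_ |>.symm
            rw [show (q ^ 3) ^ 2 - 1 = (q ^ 3 + 1) * (q ^ 3 - 1) by rw [← Nat.sq_sub_sq, one_pow]]
            exact dvd_mul_right _ _
          have h2 := h1.pow m
          rw [one_pow, ← pow_mul, ← pow_mul] at h2
          rwa [show Q = q ^ 2 from hF, ← pow_mul, show 2 * (m * 3) = 3 * (2 * m) by ring]
        obtain ⟨t, ht⟩ := (Nat.modEq_iff_dvd' (Nat.one_le_pow _ _ Fintype.card_pos)).1 hmod.symm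
        rw [show Q ^ (m * 3) = Q ^ (m * 3) - 1 + 1 from
          (Nat.sub_add_cancel (Nat.one_le_pow _ _ Fintype.card_pos)).symm, ht,
          pow_succ (X : F[X]) ((q ^ 3 + 1) * t), pow_mul,
          show ((X : F[X]) ^ (q ^ 3 + 1)) ^ t * X - X =
            (((X : F[X]) ^ (q ^ 3 + 1)) ^ t - 1) * X by ring]
        exact dvd_mul_of_dvd_left (sub_one_dvd_pow_sub_one _ t) _
      have := (aeval_eq_zero_iff hg₀).2 hd
      rwa [map_sub, map_pow, aeval_X, sub_eq_zero] at this
    obtain ⟨f, hf⟩ := exists_aeval_eq hF hg₀ (T := op (u ^ 3)) (by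
      rw [Commute, SemiconjBy, ← op_mul, ← op_mul, hc.eq])
    have hone : (u ^ 3) ^ 3 ^ e = 1 := by
      rw [hu, ← pow_mul, ← pow_mul, show m * (3 * 3 ^ e) = orderOf k * 3 by rw [hord]; ring,
        pow_mul, pow_orderOf_eq_one, one_pow]
    have hd : p₀ ∣ f ^ 3 ^ e - 1 := (aeval_eq_zero_iff hg₀).1 (by
      rw [map_sub, map_pow, ← hf, ← op_pow, hone, op_one, map_one, sub_self])
    rw [← one_pow (3 ^ e), ← sub_pow_char_pow] at hd
    have := (aeval_eq_zero_iff hg₀).2 ((irreducible_charpoly hg₀).prime.dvd_of_dvd_pow hd)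
    rw [map_sub, map_one, sub_eq_zero, ← hf] at this
    exact op_inj hF (this.trans op_one.symm)
  refine ⟨u, hmem, ?_, fun h2 => ?_⟩
  · rw [show op u - 1 = aeval (op u) (X - 1 : F[X]) by simp, ← map_pow, sub_pow_char, one_pow,
      map_sub, map_pow, aeval_X, map_one, ← op_pow, h3, op_one, sub_self]
  · refine hnc (commute_of_fix_plane hF hg₀ hmem ?_)
    have h := LinearMap.finrank_range_add_finrank_ker (op u - 1)
    rw [Module.finrank_fin_fun] at h
    have hle : LinearMap.range (op u - 1) ≤ LinearMap.ker (op u - 1) := by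
      rintro _ ⟨y, rfl⟩
      show (op u - 1) ((op u - 1) y) = 0
      rw [← Module.End.mul_apply, ← sq, h2, LinearMap.zero_apply]
    have := Submodule.finrank_mono hle
    omega

theorem line_ne_top : stab (q := q) (F ∙ (eI 0 : V)) ≠ ⊤ := by
  obtain ⟨x, hx⟩ := exists_move_line hF (n := 3) (by norm_num) (v := (eI 1 : V))
    (by rw [herm_eI_eI hF, if_pos rfl]; exact one_ne_zero)
  refine ne_top_of_notMem (g := x) fun h => ?_
  have h1 := (hx (eI 0)).1 (Submodule.mem_span_singleton_self _)
  have h2 := (h (eI 0)).1 (Submodule.mem_span_singleton_self _)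
  obtain ⟨s, hs⟩ := Submodule.mem_span_singleton.1 h1
  obtain ⟨t, ht⟩ := Submodule.mem_span_singleton.1 h2
  have hz : x • (eI 0 : V) = x • (0 : V) := by
    rw [smul_zero, ← hs]
    have := congrFun (hs.trans ht.symm) 1
    simp [eI] at this
    rw [this, zero_smul]
  have := congrFun (MulAction.injective x hz) 0
  simp [eI] at this

theorem normalizer_ne_top {g₀ : G} (hg₀ : NoEig g₀) :
    Subgroup.normalizer ((Subgroup.zpowers g₀ : Subgroup G) : Set G) ≠ ⊤ := by
  obtain ⟨u, v, -, -, hu, -, huv⟩ := exists_std_pair hF (n := 3) (i := 0) (j := 1) (by decide)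
  obtain ⟨c, hc0, hc⟩ := exists_trace_zero_ne_zero hF
  set t := tv hF hu hc with ht
  refine ne_top_of_notMem (g := t) fun hmem => ?_
  have hP : 2 ≤ Module.finrank F (LinearMap.ker (op t - 1)) := by
    refine (two_le_ker_lf (q := q) u).trans (Submodule.finrank_mono fun x hx => ?_)
    rw [mem_ker_lf] at hx
    show (op t - 1) x = 0
    rw [LinearMap.sub_apply, Module.End.one_apply, op_apply, ht, tv_smul hF hu hc, hx, mul_zero,
      zero_smul, add_zero, sub_self]
  have hcomm := commute_of_fix_plane hF hg₀ hmem hP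
  obtain ⟨f, hf⟩ := exists_aeval_eq hF hg₀ (T := op t) (by
    rw [Commute, SemiconjBy, ← op_mul, ← op_mul, hcomm.eq])
  obtain ⟨x, hx, hx0⟩ := (Submodule.ne_bot_iff _).1
    (show LinearMap.ker (op t - 1) ≠ ⊥ from fun h => by rw [h, finrank_bot] at hP; omega)
  have hd : (op g₀).charpoly ∣ f - 1 := by
    by_contra hd
    refine hx0 (aeval_injective hg₀ hd ?_)
    rw [map_sub, map_one, ← hf]
    exact hx
  have h1 := (aeval_eq_zero_iff hg₀).2 hd
  rw [map_sub, map_one, ← hf, sub_eq_zero] at h1
  have h2 := LinearMap.congr_fun h1 v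
  rw [op_apply, ht, tv_smul hF hu hc, Module.End.one_apply, herm_one_swap hF huv, mul_one,
    add_eq_left, smul_eq_zero] at h2
  exact ne_zero_of_herm_one hF huv (h2.resolve_left hc0)

theorem center_le_normalizer (g : G) :
    Subgroup.center G ≤ Subgroup.normalizer ((Subgroup.zpowers g : Subgroup G) : Set G) :=
  le_trans (Subgroup.center_le_centralizer _) (Subgroup.centralizer_le_normalizer _)

/-- The covering. -/
theorem covered {a : ℕ} (ha : 1 ≤ a) (hq : q = 3 ^ a) : Covered (Cfsg.PSU 3 F q) := by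
  haveI := charThree hF hq
  set H := stab (q := q) (F ∙ (eI 0 : V))
  have hHZ : Subgroup.center G ≤ H := center_le_stab (by norm_num) _ hF
  have hcase : ∀ g : G, (∃ x : G, x * g * x⁻¹ ∈ H) ∨ NoEig g ∨ Reg g := by
    intro g
    by_cases hn : NoEig g
    · exact Or.inr (Or.inl hn)
    by_cases hiso : ∀ (v : V) (l : F), g • v = l • v → herm q v v = 0
    · simp only [NoEig, not_forall, not_not] at hn
      obtain ⟨v, hv, l, hl⟩ := hn
      exact Or.inr (Or.inr (reg_of_eig hF hiso hv hl))
    push Not at hiso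
    obtain ⟨v, l, hl, hv⟩ := hiso
    obtain ⟨x, hx⟩ := exists_move_line hF (n := 3) (by norm_num) hv
    refine Or.inl ⟨x⁻¹, ?_⟩
    rw [inv_inv]
    refine conj_mem_stab (mem_stab_of_maps fun w hw => ?_) hx
    obtain ⟨s, rfl⟩ := Submodule.mem_span_singleton.1 hw
    rw [smul_comm g, hl]
    exact Submodule.smul_mem _ s (Submodule.smul_mem _ l (Submodule.mem_span_singleton_self v))
  by_cases hex : ∃ g₀ : G, NoEig g₀
  · obtain ⟨g₀, hg₀⟩ := hex
    refine covered_quotient _ H _ hHZ (center_le_normalizer hF g₀) (line_ne_top hF)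
      (normalizer_ne_top hF hg₀) fun g => ?_
    rcases hcase g with ⟨x, hx⟩ | hn | hr
    · exact ⟨x, Or.inl hx⟩
    · obtain ⟨x, hx⟩ := noEig_into hF hq hg₀ hn
      exact ⟨x, Or.inr hx⟩
    · obtain ⟨u, hu, hur⟩ := exists_reg hF hq hg₀
      obtain ⟨x, hx⟩ := reg_conj hF hr hur
      exact ⟨x, Or.inr (hx ▸ hu)⟩
  by_cases hr₁ : ∃ g₁ : G, Reg g₁
  · obtain ⟨g₁, hg₁⟩ := hr₁
    have hne : Subgroup.centralizer ({g₁} : Set G) ≠ ⊤ := by
      intro htop
      obtain ⟨r, hr⟩ := (Unitary.mem_center_iff hF (by norm_num : 2 ≤ 3)).1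
        (Subgroup.mem_center_iff.2 fun y => (Subgroup.mem_centralizer_singleton_iff.1
          (htop ▸ Subgroup.mem_top y)))
      have e : op g₁ = r • 1 := LinearMap.ext fun w => by rw [op_apply, hr]; rfl
      obtain ⟨h3, h2⟩ := hg₁
      rw [e, show r • (1 : Module.End F V) - 1 = (r - 1) • 1 from
        (congrArg (r • (1 : Module.End F V) - ·) (one_smul F _).symm).trans (sub_smul r 1 _).symm] at h3 h2
      refine h2 ?_
      rw [_root_.smul_pow, one_pow, smul_eq_zero] at h3 ⊢
      exact Or.inl (by rw [pow_eq_zero_iff (by norm_num)] at h3 ⊢; exact h3.resolve_right one_ne_zero)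
    refine covered_quotient _ H _ hHZ (Subgroup.center_le_centralizer _) (line_ne_top hF) hne
      fun g => ?_
    rcases hcase g with ⟨x, hx⟩ | hn | hr
    · exact ⟨x, Or.inl hx⟩
    · exact absurd ⟨g, hn⟩ hex
    · obtain ⟨x, hx⟩ := reg_conj hF hr hg₁
      exact ⟨x, Or.inr (hx ▸ Subgroup.mem_centralizer_singleton_iff.2 rfl)⟩
  refine covered_quotient _ H H hHZ hHZ (line_ne_top hF) (line_ne_top hF) fun g => ?_
  rcases hcase g with ⟨x, hx⟩ | hn | hr
  · exact ⟨x, Or.inl hx⟩
  · exact absurd ⟨g, hn⟩ hex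
  · exact absurd ⟨g, hr⟩ hr₁

end Cfsg.Agent.Cover98.UnitaryThree
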